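import Cfsg.Agent.Lib.Lead.F4Out.F4Cells
import Mathlib

/-!
# Minimal parabolic subgroups of the large Ree groups and the opposite unipotent subgroup (lead)

`cell_Qa` : the cell of the first fundamental reflection; `Qa_inf_V`, `Qb_inf_V` : the intersections of
the two minimal parabolic subgroups with `V¹` are the root families `gyA`, `gyB`; `n0G` : the lift of the
longest element, and its action on the opposite root families.
-/

set_option autoImplicit false
set_option maxRecDepth 100000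
set_option linter.unusedSectionVars false
set_option linter.unusedSimpArgs false

namespace Cfsg.Agent.F4Out

open Cfsg Cfsg.Lie Cfsg.Agent.Lib.Helper5.Chev Cfsg.Agent.Lib.Helper5.GA Cfsg.Agent.Lib.Helper5.Tw
open Cfsg.Agent.Lib.Helper5.F4W Cfsg.Agent.Lib.Helper8.F4T Cfsg.Agent.Lib.Helper8.FA
open Cfsg.Agent.Lib.Helper8.BT2 Cfsg.Agent.Lib.Helper5.BN

/-- a subgroup `Q ⊓ V`, where the elements of `Q` outside `B` lie in the cosets `B s x i` and
`B ⊓ V = 1`, is a given subgroup `Y` of the right order -/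
theorem inf_eq_of_cells {G : Type*} [Group G] [Finite G] {ι : Type*} [Finite ι]
    (B V Q Y : Subgroup G) (s : G) (x : ι → G)
    (hBV : ∀ g, g ∈ B → g ∈ V → g = 1)
    (hcell : ∀ g ∈ Q, g ∉ B → ∃ b ∈ B, ∃ i, g = b * s * x i)
    (hY : Y ≤ Q ⊓ V) (hc : Nat.card Y = Nat.card ι) (h2 : 2 ≤ Nat.card ι) :
    Q ⊓ V = Y := by
  classical
  have hex : ∀ g : ↥(Q ⊓ V), (g : G) ∉ B → ∃ i, ∃ b ∈ B, (g : G) = b * s * x i := by
    intro g hg
    obtain ⟨b, hb, i, e⟩ := hcell g (Subgroup.mem_inf.1 g.2).1 hg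
    exact ⟨i, b, hb, e⟩
  let f : ↥(Q ⊓ V) → Option ι := fun g =>
    if h : (g : G) ∈ B then none else some (hex g h).choose
  have hf : Function.Injective f := by
    intro g g' e
    by_cases h : (g : G) ∈ B
    · by_cases h' : (g' : G) ∈ B
      · apply Subtype.ext
        rw [hBV _ h (Subgroup.mem_inf.1 g.2).2, hBV _ h' (Subgroup.mem_inf.1 g'.2).2]
      · simp only [f, dif_pos h, dif_neg h'] at e
        exact absurd e (by simp)
    · by_cases h' : (g' : G) ∈ B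
      · simp only [f, dif_neg h, dif_pos h'] at e
        exact absurd e (by simp)
      · simp only [f, dif_neg h, dif_neg h', Option.some.injEq] at e
        obtain ⟨b, hb, e1⟩ := (hex g h).choose_spec
        obtain ⟨b', hb', e2⟩ := (hex g' h').choose_spec
        generalize (hex g h).choose = i at e e1
        generalize (hex g' h').choose = i' at e e2
        subst e
        have h3 : (g : G) * (g' : G)⁻¹ = b * b'⁻¹ := by
          rw [e1, e2]
          group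
        have h4 : (g : G) * (g' : G)⁻¹ = 1 :=
          hBV _ (by rw [h3]; exact B.mul_mem hb (B.inv_mem hb'))
            (V.mul_mem (Subgroup.mem_inf.1 g.2).2 (V.inv_mem (Subgroup.mem_inf.1 g'.2).2))
        exact Subtype.ext (mul_inv_eq_one.1 h4)
  have hle : Nat.card ↥(Q ⊓ V) ≤ Nat.card ι + 1 := by
    have := Nat.card_le_card_of_injective f hf
    rwa [Finite.card_option] at this
  have hdvd : Nat.card Y ∣ Nat.card ↥(Q ⊓ V) := Subgroup.card_dvd_of_le hY
  have hpos : 0 < Nat.card ↥(Q ⊓ V) := Nat.card_pos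
  have heq : Nat.card ↥(Q ⊓ V) = Nat.card Y := by
    obtain ⟨k, hk⟩ := hdvd
    rw [hk, hc] at hle hpos
    rw [hk, hc]
    have hk1 : 1 ≤ k := by
      rcases Nat.eq_zero_or_pos k with h0 | h0
      · rw [h0, mul_zero] at hpos
        exact absurd hpos (lt_irrefl 0)
      · exact h0
    have hk2 : k < 2 := by
      by_contra hcon
      have : Nat.card ι * 2 ≤ Nat.card ι * k := Nat.mul_le_mul_left _ (not_lt.1 hcon)
      omega
    have : k = 1 := by omega
    rw [this, mul_one]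
  exact (Subgroup.eq_of_le_of_card_ge hY (le_of_eq heq)).symm

variable {K : Type*} [Field K] [Fintype K] [CharP K 2] {m : ℕ}

theorem bOf_sr0 : ∀ j : Fin 8, bOf (DihedralGroup.sr 0) j = true ↔ j = 0 := by decide +kernel

/-- the fixed elements of `U_w⁻` for the first fundamental reflection -/
theorem Uw_sr0 (hK : Fintype.card K = 2 ^ (2 * m + 1)) (u : GL chevF4.Idx K)
    (hu : u ∈ Uw hK (DihedralGroup.sr 0)) :
    ∃ t : K, u = ((gxA t : GF K m) : GL chevF4.Idx K) := by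
  unfold Uw at hu
  rw [List.filter_congr (inv_eq_Pb _)] at hu
  obtain ⟨p, hp, rfl⟩ := UL_fix_exists hK (bOf (DihedralGroup.sr 0)) (good_all _) u hu.1 hu.2
  have hz : ∀ i : Fin 12, blockIdx i ≠ 0 → p i = 0 := by
    intro i hi
    apply hp
    by_contra h
    rw [Bool.not_eq_false] at h
    exact hi ((bOf_sr0 _).1 h)
  refine ⟨p 0, ?_⟩
  show _ = (hadd4 K).wordU ((P1 K).rw m (p 0))
  unfold uw
  have h1 : p 1 = 0 := hz 1 (by decide)
  have h2 : p 2 = 0 := hz 2 (by decide)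
  have h3 : p 3 = 0 := hz 3 (by decide)
  have h4 : p 4 = 0 := hz 4 (by decide)
  have h5 : p 5 = 0 := hz 5 (by decide)
  have h6 : p 6 = 0 := hz 6 (by decide)
  have h7 : p 7 = 0 := hz 7 (by decide)
  have h8 : p 8 = 0 := hz 8 (by decide)
  have h9 : p 9 = 0 := hz 9 (by decide)
  have h10 : p 10 = 0 := hz 10 (by decide)
  have h11 : p 11 = 0 := hz 11 (by decide)
  rw [h1, h2, h3, h4, h5, h6, h7, h8, h9, h10, h11]
  simp only [Cfsg.Agent.Lib.Helper5.Tw.wordU_append, pair_rw_zero, b2_rw_zero, mul_one]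

/-- an element of the first minimal parabolic subgroup outside `B¹` lies in `B¹ s_A X_A` -/
theorem cell_Qa (hK : Fintype.card K = 2 ^ (2 * m + 1)) (y : GF K m) (hy : y ∈ Qa hK)
    (hyB : y ∉ B1 K m) : ∃ b ∈ B1 K m, ∃ t : K, y = b * sA K m * gxA t := by
  have hC : y ∈ C (bnF4 hK) (psi hK (DihedralGroup.sr 0)) := by
    rcases (mem_Qa hK y).1 hy with h | h
    · rw [bnF4_B] at h
      exact absurd h hyB
    · exact h
  obtain ⟨⟨x, c⟩, rfl⟩ := (cellMap_bijective hK).2 y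
  have hc := cellMap_mem_C hK x c
  have hx : x = DihedralGroup.sr 0 :=
    psi_injective hK (bruhat (bnF4 hK) (C_inj_of_inter (bnF4 hK) hc hC))
  subst hx
  obtain ⟨u1, h, u'⟩ := c
  obtain ⟨t, hu'⟩ := Uw_sr0 hK (u' : GL chevF4.Idx K) u'.2
  have hd : nW K wA * (h : GL chevF4.Idx K) * (nW K wA)⁻¹ ∈ chevF4.diagonalSubgroup K :=
    (mono_normalizes (nW K wA) _ (nW_mem_mono _) h.2.1).1
  have hbG : (u1 : GL chevF4.Idx K) * (nW K wA * (h : GL chevF4.Idx K) * (nW K wA)⁻¹)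
      ∈ twistedF4 K (2 ^ m) :=
    Subgroup.mul_mem _ u1.2.2 (Subgroup.mul_mem _ (Subgroup.mul_mem _ (sA K m).2 h.2.2)
      (Subgroup.inv_mem _ (sA K m).2))
  refine ⟨⟨_, hbG⟩, ?_, t, ?_⟩
  · rw [mem_B1]
    exact Subgroup.mul_mem _ (pos_le_borel' u1.2.1) (diag_le_borel hd)
  · apply Subtype.ext
    show (u1 : GL chevF4.Idx K) * nW K (wd (DihedralGroup.sr 0)) * (h : GL chevF4.Idx K)
        * (u' : GL chevF4.Idx K)
      = (u1 : GL chevF4.Idx K) * (nW K wA * (h : GL chevF4.Idx K) * (nW K wA)⁻¹) * nW K wA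
        * ((gxA t : GF K m) : GL chevF4.Idx K)
    rw [hu', wd_A]
    group

/-! ### the opposite root families and `V¹` -/

theorem gyA_mem_neg (t : K) :
    ((gyA t : GF K m) : GL chevF4.Idx K) ∈ chevF4.negUnipotent K := by
  apply wordU_mem_neg
  intro p hp
  have : p = (14, ph1 K m t) ∨ p = (23, t) := by
    simpa [PairSide.rw, PairSide.w2, P1n, mkPair] using hp
  rcases this with rfl | rfl <;> norm_num

theorem gyA_mem_V1G (t : K) : (gyA t : GF K m) ∈ V1G K m := (mem_V1G _).2 (gyA_mem_neg t)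

theorem gyB_mem_V1G (t u : K) : (gyB t u : GF K m) ∈ V1G K m := (mem_V1G _).2 (gyB_mem_neg t u)

omit [Fintype K] in
theorem B1_inf_V1G (g : GF K m) (hB : g ∈ B1 K m) (hV : g ∈ V1G K m) : g = 1 := by
  rw [mem_B1] at hB
  rw [mem_V1G] at hV
  have : (g : GL chevF4.Idx K) ∈ chevF4.borelSubgroup K ⊓ chevF4.negUnipotent K := ⟨hB, hV⟩
  rw [(borel_inf_neg_all chevF4 hF4').1, Subgroup.mem_bot] at this
  exact Subtype.ext this

theorem gyA_mem_Qa (hK : Fintype.card K = 2 ^ (2 * m + 1)) (t : K) :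
    (gyA t : GF K m) ∈ Qa hK := by
  rw [← sA_conj_gxA]
  unfold Qa BNPair.parabolic
  have hs : sA K m ∈ (bnF4 hK).B ⊔ Subgroup.closure {sA K m} :=
    Subgroup.mem_sup_right (Subgroup.subset_closure rfl)
  have hb : (gxA t : GF K m) ∈ (bnF4 hK).B ⊔ Subgroup.closure {sA K m} := by
    apply Subgroup.mem_sup_left
    rw [bnF4_B, mem_B1]
    exact pos_le_borel' (wordU_mem_pos _ (P1_bd t))
  exact Subgroup.mul_mem _ (Subgroup.mul_mem _ hs hb) (Subgroup.inv_mem _ hs)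

/-- the subgroup of the family `gyA` -/
noncomputable def YA (K : Type*) [Field K] [Fintype K] [CharP K 2] (m : ℕ) : Subgroup (GF K m) where
  carrier := Set.range (gyA : K → GF K m)
  mul_mem' := by
    rintro _ _ ⟨s, rfl⟩ ⟨t, rfl⟩
    exact ⟨s + t, (RA K m).Y_add s t⟩
  one_mem' := by
    refine ⟨0, ?_⟩
    have := (RA K m).Y_add 0 0
    rw [add_zero] at this
    exact left_eq_mul.1 this
  inv_mem' := by
    rintro _ ⟨s, rfl⟩
    refine ⟨-s, ?_⟩
    have h0 : (gyA (0 : K) : GF K m) = 1 := by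
      have := (RA K m).Y_add 0 0
      rw [add_zero] at this
      exact left_eq_mul.1 this
    have := (RA K m).Y_add (-s) s
    rw [neg_add_cancel] at this
    exact eq_inv_of_mul_eq_one_left (this.symm.trans h0)

theorem card_YA : Nat.card (YA K m) = Nat.card K := by
  have : Nat.card (YA K m) = Nat.card (Set.range (gyA : K → GF K m)) := rfl
  rw [this]
  exact Nat.card_range_of_injective (fun a b h => gyA_inj a b h)

/-- **the first minimal parabolic subgroup meets `V¹` in the family `gyA`** -/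
theorem Qa_inf_V (hK : Fintype.card K = 2 ^ (2 * m + 1)) (g : GF K m) (hg : g ∈ Qa hK)
    (hV : g ∈ V1G K m) : ∃ t : K, g = gyA t := by
  have h2 : 2 ≤ Nat.card K := by
    rw [Nat.card_eq_fintype_card]
    exact Fintype.one_lt_card
  have key := inf_eq_of_cells (B1 K m) (V1G K m) (Qa hK) (YA K m) (sA K m) (gxA : K → GF K m)
    B1_inf_V1G (fun y hy hyB => cell_Qa hK y hy hyB)
    (by
      rintro _ ⟨t, rfl⟩
      exact ⟨gyA_mem_Qa hK t, gyA_mem_V1G t⟩) card_YA h2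
  have : g ∈ YA K m := by
    rw [← key]
    exact ⟨hg, hV⟩
  obtain ⟨t, e⟩ := this
  exact ⟨t, e.symm⟩

/-- **the second minimal parabolic subgroup meets `V¹` in the family `gyB`** -/
theorem Qb_inf_V (hK : Fintype.card K = 2 ^ (2 * m + 1)) (hm : 1 ≤ m) (g : GF K m)
    (hg : g ∈ Qb hK) (hV : g ∈ V1G K m) : ∃ t u : K, g = gyB t u := by
  have Q := fieldOK hK hm
  have h2 : 2 ≤ Nat.card (K × K) := by
    rw [Nat.card_eq_fintype_card]
    exact Fintype.one_lt_card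
  have key := inf_eq_of_cells (B1 K m) (V1G K m) (Qb hK) ((SY hK).sub Q) (sB K m)
    (fun p : K × K => (gxB p.1 p.2 : GF K m))
    B1_inf_V1G (fun y hy hyB => by
      obtain ⟨b, hb, t, s, e⟩ := cell_Qb hK y hy hyB
      exact ⟨b, hb, (t, s), e⟩)
    (by
      rintro _ ⟨t, u, rfl⟩
      exact ⟨gyB_mem_Qb hK t u, gyB_mem_V1G t u⟩)
    (by rw [SzFam.card_sub, Nat.card_prod]) h2
  have : g ∈ (SY hK).sub Q := by
    rw [← key]
    exact ⟨hg, hV⟩
  obtain ⟨t, u, e⟩ := this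
  have e' : g = (gyB t u : GF K m) := e
  exact ⟨t, u, e'⟩

/-! ### the longest element -/

theorem Lw0_pos : ∀ r < 48, r < 24 → 24 ≤ wW BsF4.Bs Lw0 r := by decide +kernel

omit [Fintype K] [CharP K 2] in
/-- the longest element maps `V` into `U` -/
theorem n0_conj_neg (u : GL chevF4.Idx K) (hu : u ∈ chevF4.negUnipotent K) :
    nW K Lw0 * u * (nW K Lw0)⁻¹ ∈ chevF4.posUnipotent K := by
  have hle : chevF4.negUnipotent K
      ≤ (chevF4.posUnipotent K).comap (MulAut.conj (nW K Lw0)).toMonoidHom := by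
    unfold ChevalleyDatum.negUnipotent
    rw [Subgroup.closure_le]
    rintro x ⟨r, t, hr, hx⟩
    have hx' : x = (hadd4 K).xU r t := Units.ext hx
    rw [SetLike.mem_coe, Subgroup.mem_comap, hx']
    show nW K Lw0 * (hadd4 K).xU r t * (nW K Lw0)⁻¹ ∈ _
    obtain ⟨t', e⟩ := conj_word_diag hD4 DataF4.agrees (hadd4 K) BsF4.Bs HsF4.reflBs' Lw0 Lw0_lt
      1 (Subgroup.one_mem _) r hr.1 t
    rw [mul_one] at e
    have e' : nW K Lw0 * (hadd4 K).xU r t * (nW K Lw0)⁻¹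
        = (hadd4 K).xU (wW BsF4.Bs Lw0 r) t' := e
    rw [e']
    have hlt := wW_lt DataF4.agrees BsF4.Bs HsF4.reflBs' Lw0 Lw0_lt r hr.1
    have h24 := Lw0_pos r hr.1 ((neg_iff24 r hr.1).1 hr)
    exact Subgroup.subset_closure ⟨_, t', (pos_iff24 _ hlt).2 h24, rfl⟩
  exact hle hu

/-- the lift of the longest element of the Weyl group -/
noncomputable def n0G (K : Type*) [Field K] [CharP K 2] (m : ℕ) : GF K m :=
  ⟨nW K Lw0, nW_wd_mem_twisted _⟩

omit [Fintype K] in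
theorem n0G_mem_N1 : n0G K m ∈ N1 K m := (mem_N1 _).2 (nW_mem_mono _)

omit [Fintype K] in
theorem n0G_conj_U1G (u : GF K m) (hu : u ∈ U1G K m) : n0G K m * u * (n0G K m)⁻¹ ∈ V1G K m := by
  rw [mem_V1G]
  exact n0_conj_pos _ ((Cfsg.Agent.Lib.Helper8.BT2.mem_U1G _).1 hu)

omit [Fintype K] in
theorem n0G_conj_V1G (v : GF K m) (hv : v ∈ V1G K m) : n0G K m * v * (n0G K m)⁻¹ ∈ U1G K m := by
  rw [Cfsg.Agent.Lib.Helper8.BT2.mem_U1G]
  exact n0_conj_neg _ ((mem_V1G _).1 hv)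

theorem n0G_conj_gyA (t : K) : n0G K m * gyA t * (n0G K m)⁻¹ = gxA t := by
  apply Subtype.ext
  show nW K Lw0 * (hadd4 K).wordU ((P1n K).rw m t) * (nW K Lw0)⁻¹ = (hadd4 K).wordU ((P1 K).rw m t)
  unfold nW
  rw [conj_wordU2 Lw0 Lw0_lt _ (P1n_rw_lt t)]
  have e14 : wW BsF4.Bs Lw0 14 = 33 := by decide +kernel
  have e23 : wW BsF4.Bs Lw0 23 = 24 := by decide +kernel
  show (hadd4 K).wordU [(wW BsF4.Bs Lw0 14, ph1 K m t), (wW BsF4.Bs Lw0 23, t)] = _
  rw [e14, e23]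
  rfl

theorem Q4n_rw_lt (t u : K) : ∀ p ∈ (Q4n K).rw m t u, p.1 < chevF4.nroots := by
  intro p hp
  have : p = (20, ph1 K m t) ∨ p = (22, t) ∨ p = (19, ph1 K m t * t + u) ∨ p = (17, ph2 K m u) := by
    simpa [B2Side.rw, B2Side.w4, Q4n, mkB2] using hp
  rcases this with rfl | rfl | rfl | rfl
  · show (20 : ℕ) < chevF4.nroots
    decide
  · show (22 : ℕ) < chevF4.nroots
    decide
  · show (19 : ℕ) < chevF4.nroots
    decide
  · show (17 : ℕ) < chevF4.nroots
    decide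

theorem n0G_conj_gyB (t u : K) : n0G K m * gyB t u * (n0G K m)⁻¹ = gxB t u := by
  apply Subtype.ext
  show nW K Lw0 * (hadd4 K).wordU ((Q4n K).rw m t u) * (nW K Lw0)⁻¹
    = (hadd4 K).wordU ((Q4 K).rw m t u)
  unfold nW
  rw [conj_wordU2 Lw0 Lw0_lt _ (Q4n_rw_lt t u)]
  have e20 : wW BsF4.Bs Lw0 20 = 27 := by decide +kernel
  have e22 : wW BsF4.Bs Lw0 22 = 25 := by decide +kernel
  have e19 : wW BsF4.Bs Lw0 19 = 28 := by decide +kernel
  have e17 : wW BsF4.Bs Lw0 17 = 30 := by decide +kernel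
  show (hadd4 K).wordU [(wW BsF4.Bs Lw0 20, ph1 K m t), (wW BsF4.Bs Lw0 22, t),
    (wW BsF4.Bs Lw0 19, ph1 K m t * t + u), (wW BsF4.Bs Lw0 17, ph2 K m u)] = _
  rw [e20, e22, e19, e17]
  rfl

theorem n0G_conj_gxA (t : K) : n0G K m * gxA t * (n0G K m)⁻¹ = gyA t := by
  apply Subtype.ext
  show nW K Lw0 * (hadd4 K).wordU ((P1 K).rw m t) * (nW K Lw0)⁻¹ = (hadd4 K).wordU ((P1n K).rw m t)
  unfold nW
  rw [conj_wordU2 Lw0 Lw0_lt _ (P1rw_lt t)]
  have e33 : wW BsF4.Bs Lw0 33 = 14 := by decide +kernel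
  have e24 : wW BsF4.Bs Lw0 24 = 23 := by decide +kernel
  show (hadd4 K).wordU [(wW BsF4.Bs Lw0 33, ph1 K m t), (wW BsF4.Bs Lw0 24, t)] = _
  rw [e33, e24]
  rfl

theorem n0G_conj_gxB (t u : K) : n0G K m * gxB t u * (n0G K m)⁻¹ = gyB t u := by
  apply Subtype.ext
  show nW K Lw0 * (hadd4 K).wordU ((Q4 K).rw m t u) * (nW K Lw0)⁻¹
    = (hadd4 K).wordU ((Q4n K).rw m t u)
  unfold nW
  rw [conj_wordU2 Lw0 Lw0_lt _ (Q4rw_lt t u)]
  have e27 : wW BsF4.Bs Lw0 27 = 20 := by decide +kernel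
  have e25 : wW BsF4.Bs Lw0 25 = 22 := by decide +kernel
  have e28 : wW BsF4.Bs Lw0 28 = 19 := by decide +kernel
  have e30 : wW BsF4.Bs Lw0 30 = 17 := by decide +kernel
  show (hadd4 K).wordU [(wW BsF4.Bs Lw0 27, ph1 K m t), (wW BsF4.Bs Lw0 25, t),
    (wW BsF4.Bs Lw0 28, ph1 K m t * t + u), (wW BsF4.Bs Lw0 30, ph2 K m u)] = _
  rw [e27, e25, e28, e30]
  rfl

/-- **the longest element** : it exchanges `U¹` and `V¹` and the root families -/
theorem exists_longest : ∃ n : GF K m, (∀ u ∈ U1G K m, n * u * n⁻¹ ∈ V1G K m) ∧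
    (∀ v ∈ V1G K m, n * v * n⁻¹ ∈ U1G K m) ∧ (∀ t, ∃ t', n * gyA t * n⁻¹ = gxA t') ∧
    (∀ t u, ∃ t' u', n * gyB t u * n⁻¹ = gxB t' u') ∧ n ∈ N1 K m :=
  ⟨n0G K m, n0G_conj_U1G, n0G_conj_V1G, fun t => ⟨t, n0G_conj_gyA t⟩,
    fun t u => ⟨t, u, n0G_conj_gyB t u⟩, n0G_mem_N1⟩

end Cfsg.Agent.F4Out
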