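import Mathlib

/-!
# Automorphisms on a family of Suzuki type (lead)

`SzFam K e G` : a family `X t u` (`t u ∈ K`) in a group `G` with the product law of the root subgroups of
Suzuki type of the large Ree groups: `X t u * X t' u' = X (t + t') (u + u' + t ^ e * t')`.
`SzFam.shape` : an automorphism preserving the family and compatible with a torus acting through
`(a⁻¹, (a⁻¹)^(e+1))` is `X t u ↦ X (c ψ t) (c^(e+1) ψ u)`.
`coset_rigidity` : an automorphism stabilising `B`, fixing `X` pointwise and stabilising the opposite `Y`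
fixes `Y` pointwise (rank one Bruhat cell argument).
-/

set_option autoImplicit false

namespace Cfsg.Agent.F4Out

variable {K : Type*} [Field K] {G : Type*} [Group G]

/-- a family of Suzuki type -/
structure SzFam (K : Type*) [Field K] (e : ℕ) (G : Type*) [Group G] where
  X : K → K → G
  X_mul : ∀ t u t' u', X t u * X t' u' = X (t + t') (u + u' + t ^ e * t')
  X_inj : ∀ t u t' u', X t u = X t' u' → t = t' ∧ u = u'

/-- the field facts used: `K` has characteristic two, `e` is a power of two with `2 e² ≡ 1`,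
and `K` has more than two elements -/
structure FieldOK (K : Type*) [Field K] (e : ℕ) : Prop where
  two : (2 : K) = 0
  add_pow : ∀ a b : K, (a + b) ^ e = a ^ e + b ^ e
  tits : ∀ t : K, ((t ^ e) ^ e) ^ 2 = t
  big : ∃ l : K, l ≠ 0 ∧ l ≠ 1
  epos : 1 ≤ e

theorem FieldOK.add_self {e : ℕ} (Q : FieldOK K e) (a : K) : a + a = 0 := by
  rw [← two_mul, Q.two, zero_mul]

/-- `t ↦ t ^ (e + 1)` is onto -/
theorem FieldOK.surj {e : ℕ} (Q : FieldOK K e) (s : K) : ∃ t : K, t ^ (e + 1) = s := by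
  by_cases hs : s = 0
  · exact ⟨0, by rw [hs, zero_pow (Nat.succ_ne_zero e)]⟩
  refine ⟨(s⁻¹) ^ (2 * (e - 1)), ?_⟩
  obtain ⟨k, rfl⟩ : ∃ k, e = k + 1 := ⟨e - 1, (Nat.sub_add_cancel Q.epos).symm⟩
  simp only [Nat.add_sub_cancel]
  have h1 : s ^ ((k + 1) * ((k + 1) * 2)) = s := by
    have := Q.tits s
    rw [← pow_mul, ← pow_mul] at this
    exact this
  have h2 : (k + 1) * ((k + 1) * 2) = 2 * k * (k + 1 + 1) + 1 + 1 := by ring
  rw [h2, pow_succ, pow_succ] at h1
  have h3 : s ^ (2 * k * (k + 1 + 1)) * s = 1 := by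
    have : s ^ (2 * k * (k + 1 + 1)) * s * s = 1 * s := by rw [h1, one_mul]
    exact mul_right_cancel₀ hs this
  rw [← pow_mul, inv_pow]
  rw [eq_inv_of_mul_eq_one_left h3, inv_inv]

end Cfsg.Agent.F4Out

namespace Cfsg.Agent.F4Out

variable {K : Type*} [Field K] {G : Type*} [Group G]

namespace SzFam

variable {e : ℕ} (S : SzFam K e G)

theorem X_zero : S.X 0 0 = 1 := by
  have h := S.X_mul 0 0 0 0
  simp only [add_zero, mul_zero] at h
  exact mul_eq_left.1 h

theorem X_sq (Q : FieldOK K e) (t u : K) : S.X t u * S.X t u = S.X 0 (t ^ (e + 1)) := by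
  rw [S.X_mul, Q.add_self, Q.add_self, zero_add, pow_succ]

theorem X_split (t u : K) : S.X t u = S.X t 0 * S.X 0 u := by
  rw [S.X_mul, add_zero, zero_add, mul_zero, add_zero]

/-- **shape of an automorphism on a family of Suzuki type** -/
theorem shape (Q : FieldOK K e) (h : K → G)
    (th : G ≃* G) (hpres : ∀ t u, ∃ t' u', th (S.X t u) = S.X t' u') (ψ : K ≃+* K)
    (hact : ∀ a, a ≠ 0 → ∀ t u, h a * S.X t u * (h a)⁻¹ = S.X (a⁻¹ * t) ((a⁻¹) ^ (e + 1) * u))
    (hh : ∀ a, a ≠ 0 → ∀ t u,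
      th (h a) * S.X t u * (th (h a))⁻¹ = S.X ((ψ a)⁻¹ * t) (((ψ a)⁻¹) ^ (e + 1) * u)) :
    ∃ c : K, c ≠ 0 ∧ ∀ t u, th (S.X t u) = S.X (c * ψ t) (c ^ (e + 1) * ψ u) := by
  choose φ η hφη using hpres
  have M : ∀ t u t' u', φ (t + t') (u + u' + t ^ e * t') = φ t u + φ t' u' ∧
      η (t + t') (u + u' + t ^ e * t') = η t u + η t' u' + (φ t u) ^ e * φ t' u' := by
    intro t u t' u'
    apply S.X_inj
    rw [← hφη, ← S.X_mul, map_mul, hφη, hφη, S.X_mul]
  have h00 : φ 0 0 = 0 ∧ η 0 0 = 0 := by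
    apply S.X_inj
    rw [← hφη, S.X_zero, map_one]
  -- `φ` does not depend on the second variable
  have hφ0 : ∀ s, φ 0 s = 0 := by
    intro s
    obtain ⟨r, rfl⟩ := Q.surj s
    have := (M r 0 r 0).1
    rw [Q.add_self r, add_zero, zero_add, ← pow_succ, Q.add_self] at this
    exact this
  have hφ : ∀ t u, φ t u = φ t 0 := by
    intro t u
    have := (M t 0 0 u).1
    rw [add_zero, zero_add, mul_zero, add_zero, hφ0, add_zero] at this
    exact this
  set f : K → K := fun t => φ t 0 with hf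
  have fadd : ∀ t t', f (t + t') = f t + f t' := by
    intro t t'
    have := (M t 0 t' 0).1
    rw [hφ] at this
    simpa using this
  -- the torus
  have T : ∀ a, a ≠ 0 → ∀ t u, f (a⁻¹ * t) = (ψ a)⁻¹ * f t ∧
      η (a⁻¹ * t) ((a⁻¹) ^ (e + 1) * u) = ((ψ a)⁻¹) ^ (e + 1) * η t u := by
    intro a ha t u
    have h1 := congrArg th (hact a ha t u)
    rw [map_mul, map_mul, map_inv, hφη, hφη, hh a ha] at h1
    have := S.X_inj _ _ _ _ h1
    rw [hφ (a⁻¹ * t), hφ t] at this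
    exact ⟨this.1.symm, this.2.symm⟩
  have T' : ∀ a, a ≠ 0 → ∀ t u, f (a * t) = ψ a * f t ∧
      η (a * t) (a ^ (e + 1) * u) = (ψ a) ^ (e + 1) * η t u := by
    intro a ha t u
    have := T a⁻¹ (inv_ne_zero ha) t u
    rw [inv_inv, map_inv₀, inv_inv] at this
    exact this
  have f0 : f 0 = 0 := h00.1
  set c : K := f 1 with hc
  have fc : ∀ t, f t = c * ψ t := by
    intro t
    by_cases ht : t = 0
    · rw [ht, f0, map_zero, mul_zero]
    · have := (T' t ht 1 0).1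
      rw [mul_one] at this
      rw [this, mul_comm]
  have c0 : c ≠ 0 := by
    intro hc0
    have hf0 : ∀ t, f t = 0 := fun t => by rw [fc, hc0, zero_mul]
    have h1 : th (S.X 1 0 * S.X 1 0) = 1 := by
      rw [map_mul, hφη, S.X_sq Q]
      have : φ 1 0 = 0 := hf0 1
      rw [this, zero_pow (Nat.succ_ne_zero e), S.X_zero]
    rw [S.X_sq Q, one_pow] at h1
    have h2 : S.X 0 1 = S.X 0 0 := by
      rw [S.X_zero]
      exact (map_eq_one_iff th th.injective).1 h1
    exact one_ne_zero (S.X_inj _ _ _ _ h2).2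
  -- the second coordinate
  have hη : ∀ t u, η t u = η t 0 + η 0 u := by
    intro t u
    have := (M t 0 0 u).2
    rw [add_zero, zero_add, mul_zero, add_zero, hφ0, mul_zero, add_zero] at this
    exact this
  have hη0 : ∀ s, η 0 s = c ^ (e + 1) * ψ s := by
    intro s
    obtain ⟨r, rfl⟩ := Q.surj s
    have := (M r 0 r 0).2
    rw [Q.add_self r, add_zero, zero_add, Q.add_self, zero_add, ← pow_succ, ← pow_succ] at this
    rw [this, show φ r 0 = f r from rfl, fc, mul_pow, map_pow]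
  have hη1add : ∀ t t', η (t + t') 0 = η t 0 + η t' 0 := by
    intro t t'
    have := (M t 0 t' 0).2
    rw [add_zero, zero_add, hη, hη0, show φ t 0 = f t from rfl, show φ t' 0 = f t' from rfl,
      fc, fc] at this
    have e2 : c ^ (e + 1) * ψ (t ^ e * t') = (c * ψ t) ^ e * (c * ψ t') := by
      rw [map_mul, map_pow, pow_succ]
      ring
    rw [e2] at this
    exact add_right_cancel this
  have hη1 : ∀ t, η t 0 = 0 := by
    by_contra hne
    rw [not_forall] at hne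
    obtain ⟨t₀, ht₀⟩ := hne
    obtain ⟨l, hl0, hl1⟩ := Q.big
    have hl : (1 + l) ≠ 0 := by
      intro h
      apply hl1
      have := Q.add_self l
      have h3 : l = 1 := by
        calc l = l + (1 + l) := by rw [h, add_zero]
          _ = 1 + (l + l) := by ring
          _ = 1 := by rw [this, add_zero]
      exact h3
    have e1 := (T' (1 + l) hl t₀ 0).2
    rw [mul_zero] at e1
    have e2 := (T' l hl0 t₀ 0).2
    rw [mul_zero] at e2
    rw [add_mul, one_mul, hη1add, e2] at e1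
    set μ := ψ l with hμ
    have e3 : (1 + μ ^ (e + 1)) * η t₀ 0 = (1 + μ) ^ (e + 1) * η t₀ 0 := by
      rw [add_mul, one_mul, e1, map_add, map_one]
    have e4 := mul_right_cancel₀ ht₀ e3
    rw [pow_succ (1 + μ), Q.add_pow, one_pow] at e4
    have e5 : μ ^ e + μ = 0 := by
      have : (1 + μ ^ e) * (1 + μ) = 1 + μ ^ (e + 1) + (μ ^ e + μ) := by rw [pow_succ]; ring
      rw [this] at e4
      exact (left_eq_add.1 e4)
    have e6 : μ ^ e = μ := by
      calc μ ^ e = μ ^ e + (μ + μ) := by rw [Q.add_self, add_zero]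
        _ = (μ ^ e + μ) + μ := by ring
        _ = μ := by rw [e5, zero_add]
    have e7 := Q.tits μ
    rw [e6, e6] at e7
    have e8 : μ * (μ - 1) = 0 := by rw [mul_sub, mul_one, ← sq, e7, sub_self]
    rcases mul_eq_zero.1 e8 with h | h
    · exact hl0 ((map_eq_zero ψ).1 h)
    · apply hl1
      have : ψ l = ψ 1 := by rw [map_one]; exact sub_eq_zero.1 h
      exact ψ.injective this
  refine ⟨c, c0, ?_⟩
  intro t u
  rw [hφη, hφ, hη, hη1, zero_add, hη0, show φ t 0 = f t from rfl, fc]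

end SzFam

end Cfsg.Agent.F4Out

namespace Cfsg.Agent.F4Out

variable {G : Type*} [Group G]

/-- **rank one rigidity**: an automorphism stabilising `B`, fixing `X` pointwise and stabilising the
opposite subgroup `Y` fixes `Y` pointwise, provided `Y \ 1 ⊆ X n B` (with uniqueness of the `X`-part),
`n⁻¹ Y n ≤ B`, `n ∉ B` and `Y ∩ B = 1`. -/
theorem coset_rigidity (B X Y : Subgroup G) [Finite X] (hcard : Nat.card Y = Nat.card X) (n : G)
    (h1 : ∀ y ∈ Y, y ≠ 1 → ∃ u ∈ X, ∃ b ∈ B, y = u * n * b)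
    (h2 : ∀ u ∈ X, ∀ u' ∈ X, ∀ b ∈ B, u * n * b = u' * n → u = u')
    (h3 : ∀ y ∈ Y, n⁻¹ * y * n ∈ B) (h5 : n ∉ B) (h6 : ∀ y ∈ Y, y ∈ B → y = 1)
    (th : G ≃* G) (t1 : ∀ b ∈ B, th b ∈ B) (t2 : ∀ u ∈ X, th u = u) (t3 : ∀ y ∈ Y, th y ∈ Y) :
    ∀ y ∈ Y, th y = y := by
  classical
  have : Finite Y := Nat.finite_of_card_ne_zero (by rw [hcard]; exact Nat.card_pos.ne')
  -- the relation `y ∈ u n B`
  let rel : G → G → Prop := fun y u => ∃ b ∈ B, y = u * n * b
  have runiq : ∀ y, ∀ u ∈ X, ∀ u' ∈ X, rel y u → rel y u' → u = u' := by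
    rintro y u hu u' hu' ⟨b, hb, e⟩ ⟨b', hb', e'⟩
    apply h2 u hu u' hu' (b * b'⁻¹) (B.mul_mem hb (B.inv_mem hb'))
    rw [← mul_assoc, ← e, e', mul_inv_cancel_right]
  have rne : ∀ y ∈ Y, ¬ rel y 1 := by
    rintro y hy ⟨b, hb, e⟩
    apply h5
    have h := h3 y hy
    rw [e, one_mul, inv_mul_cancel_left] at h
    have : n = b⁻¹ * (b * n) := by group
    rw [this]
    exact B.mul_mem (B.inv_mem hb) h
  have rinj : ∀ y ∈ Y, ∀ y' ∈ Y, ∀ u, rel y u → rel y' u → y = y' := by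
    rintro y hy y' hy' u ⟨b, hb, e⟩ ⟨b', hb', e'⟩
    have h : y⁻¹ * y' = b⁻¹ * b' := by rw [e, e']; group
    have := h6 (y⁻¹ * y') (Y.mul_mem (Y.inv_mem hy) hy') (by
      rw [h]; exact B.mul_mem (B.inv_mem hb) hb')
    exact inv_mul_eq_one.1 this
  -- the map `Y \ 1 → X \ 1`
  have hex : ∀ y : {y : Y // (y : G) ≠ 1}, ∃ u : {u : X // (u : G) ≠ 1}, rel (y.1 : G) (u.1 : G) := by
    rintro ⟨⟨y, hy⟩, hy1⟩
    obtain ⟨u, hu, b, hb, e⟩ := h1 y hy hy1
    refine ⟨⟨⟨u, hu⟩, ?_⟩, b, hb, e⟩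
    intro hu1
    apply rne y hy
    refine ⟨b, hb, ?_⟩
    rw [e]
    congr 2
  choose U hU using hex
  have Uinj : Function.Injective U := by
    intro y y' h
    have := rinj _ y.1.2 _ y'.1.2 _ (hU y) (h ▸ hU y')
    exact Subtype.ext (Subtype.ext this)
  have cardeq : Nat.card {y : Y // (y : G) ≠ 1} = Nat.card {u : X // (u : G) ≠ 1} := by
    have e1 : ∀ (H : Subgroup G) [Finite H], Nat.card {y : H // (y : G) ≠ 1} = Nat.card H - 1 := by
      intro H _
      have : Nat.card {y : H // (y : G) ≠ 1} = Nat.card {y : H // y ≠ 1} := by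
        apply Nat.card_congr
        refine Equiv.subtypeEquivRight ?_
        intro y
        rw [Ne, Ne, ← H.coe_one, Subtype.ext_iff]
      rw [this]
      have := Fintype.ofFinite H
      rw [Nat.card_eq_fintype_card, Nat.card_eq_fintype_card]
      show Fintype.card {y : H // ¬ (y = 1)} = _
      rw [Fintype.card_subtype_compl (fun y : H => y = 1), Fintype.card_subtype_eq]
    rw [e1 Y, e1 X, hcard]
  have Usurj : Function.Surjective U := by
    have hb : Function.Bijective U := by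
      rw [Nat.bijective_iff_injective_and_card]
      exact ⟨Uinj, cardeq⟩
    exact hb.2
  intro y hy
  by_cases hy1 : y = 1
  · rw [hy1, map_one]
  -- `th n ∈ v n B`
  have thne : ∀ z ∈ Y, z ≠ 1 → th z ≠ 1 := fun z _ hz h => hz ((map_eq_one_iff th th.injective).1 h)
  obtain ⟨v, hv, b'', hb'', en⟩ : ∃ v ∈ X, ∃ b ∈ B, th n = v * n * b := by
    obtain ⟨u₀, hu₀, b₀, hb₀, e₀⟩ := h1 y hy hy1
    obtain ⟨u₁, hu₁, b₁, hb₁, e₁⟩ := h1 (th y) (t3 y hy) (thne y hy hy1)
    have hn : n = u₀⁻¹ * y * b₀⁻¹ := by rw [e₀]; group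
    refine ⟨u₀⁻¹ * u₁, X.mul_mem (X.inv_mem hu₀) hu₁, b₁ * (th b₀)⁻¹,
      B.mul_mem hb₁ (B.inv_mem (t1 b₀ hb₀)), ?_⟩
    conv_lhs => rw [hn]
    rw [map_mul, map_mul, map_inv, map_inv, t2 u₀ hu₀, e₁]
    group
  have key : ∀ z : {y : Y // (y : G) ≠ 1}, rel (th (z.1 : G)) ((U z).1 * v) := by
    intro z
    obtain ⟨b, hb, e⟩ := hU z
    refine ⟨b'' * th b, B.mul_mem hb'' (t1 b hb), ?_⟩
    rw [e, map_mul, map_mul, t2 _ (U z).1.2, en]
    group
  have hv1 : v = 1 := by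
    by_contra hv1
    obtain ⟨z, hz⟩ := Usurj ⟨⟨v⁻¹, X.inv_mem hv⟩, fun h => hv1 (inv_eq_one.1 h)⟩
    have := key z
    rw [hz] at this
    simp only [inv_mul_cancel] at this
    exact rne _ (t3 _ z.1.2) this
  have k2 := key ⟨⟨y, hy⟩, hy1⟩
  rw [hv1, mul_one] at k2
  have k3 := hU ⟨⟨th y, t3 y hy⟩, thne y hy hy1⟩
  have k4 : (U ⟨⟨th y, t3 y hy⟩, thne y hy hy1⟩).1 = (U ⟨⟨y, hy⟩, hy1⟩).1 := by
    apply Subtype.ext
    exact runiq (th y) _ (U _).1.2 _ (U _).1.2 k3 k2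
  have k5 : U ⟨⟨th y, t3 y hy⟩, thne y hy hy1⟩ = U ⟨⟨y, hy⟩, hy1⟩ := Subtype.ext k4
  have := Uinj k5
  exact congrArg (fun z : {y : Y // (y : G) ≠ 1} => (z.1 : G)) this

end Cfsg.Agent.F4Out
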