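import Cfsg.Agent.Lib.Lead.F4Out.F4Gen
import Mathlib

/-!
# The cell of the second fundamental reflection of the large Ree groups (lead)

`cell_Qb` : the elements of the second minimal parabolic subgroup outside `B¹` lie in `B¹ s_B X_B`
(from helper8's cell decomposition); `cov'`, `uniq'`, `sB_inv_not_mem` : the hypotheses of `coset_rigidity`
for the families `gxB`, `gyB` and `n = s_B⁻¹`.
-/

set_option autoImplicit false
set_option maxRecDepth 100000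
set_option linter.unusedSectionVars false
set_option linter.unusedSimpArgs false

namespace Cfsg.Agent.F4Out

open Cfsg Cfsg.Lie Cfsg.Agent.Lib.Helper5.Chev Cfsg.Agent.Lib.Helper5.GA Cfsg.Agent.Lib.Helper5.Tw
open Cfsg.Agent.Lib.Helper5.F4W Cfsg.Agent.Lib.Helper8.F4T Cfsg.Agent.Lib.Helper8.FA
open Cfsg.Agent.Lib.Helper8.BT2 Cfsg.Agent.Lib.Helper5.BN

variable {K : Type*} [Field K] [Fintype K] [CharP K 2] {m : ℕ}

theorem bOf_sr1 : ∀ j : Fin 8, bOf (DihedralGroup.sr 1) j = true ↔ j = 7 := by decide +kernel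

/-- the fixed elements of `U_w⁻` for the second fundamental reflection -/
theorem Uw_sr1 (hK : Fintype.card K = 2 ^ (2 * m + 1)) (u : GL chevF4.Idx K)
    (hu : u ∈ Uw hK (DihedralGroup.sr 1)) :
    ∃ t s : K, u = ((gxB t s : GF K m) : GL chevF4.Idx K) := by
  unfold Uw at hu
  rw [List.filter_congr (inv_eq_Pb _)] at hu
  obtain ⟨p, hp, rfl⟩ := UL_fix_exists hK (bOf (DihedralGroup.sr 1)) (good_all _) u hu.1 hu.2
  have hz : ∀ i : Fin 12, blockIdx i ≠ 7 → p i = 0 := by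
    intro i hi
    apply hp
    by_contra h
    rw [Bool.not_eq_false] at h
    exact hi ((bOf_sr1 _).1 h)
  refine ⟨p 10, p 11, ?_⟩
  show _ = (hadd4 K).wordU ((Q4 K).rw m (p 10) (p 11))
  unfold uw
  have h0 : p 0 = 0 := hz 0 (by decide)
  have h1 : p 1 = 0 := hz 1 (by decide)
  have h2 : p 2 = 0 := hz 2 (by decide)
  have h3 : p 3 = 0 := hz 3 (by decide)
  have h4 : p 4 = 0 := hz 4 (by decide)
  have h5 : p 5 = 0 := hz 5 (by decide)
  have h6 : p 6 = 0 := hz 6 (by decide)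
  have h7 : p 7 = 0 := hz 7 (by decide)
  have h8 : p 8 = 0 := hz 8 (by decide)
  have h9 : p 9 = 0 := hz 9 (by decide)
  rw [h0, h1, h2, h3, h4, h5, h6, h7, h8, h9]
  simp only [Cfsg.Agent.Lib.Helper5.Tw.wordU_append, pair_rw_zero, b2_rw_zero, one_mul]

omit [Fintype K] [CharP K 2] in
theorem nW_sr1 : (nW K wB)⁻¹ * nW K (wd (DihedralGroup.sr 1)) ∈ chevF4.diagonalSubgroup K :=
  coset_of_act_eq (K := K) wB (wd (DihedralGroup.sr 1)) isWord_wB (isWord_wd _)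
    (act_eq_of_simple isWord_wB (isWord_wd _) (fun k hk => (wd_B k hk).symm))

/-- an element of the second minimal parabolic subgroup outside `B¹` lies in `B¹ s_B X_B` -/
theorem cell_Qb (hK : Fintype.card K = 2 ^ (2 * m + 1)) (y : GF K m) (hy : y ∈ Qb hK)
    (hyB : y ∉ B1 K m) : ∃ b ∈ B1 K m, ∃ t s : K, y = b * sB K m * gxB t s := by
  have hC : y ∈ C (bnF4 hK) (psi hK (DihedralGroup.sr 1)) := by
    rcases (mem_Qb hK y).1 hy with h | h
    · rw [bnF4_B] at h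
      exact absurd h hyB
    · exact h
  obtain ⟨⟨x, c⟩, rfl⟩ := (cellMap_bijective hK).2 y
  have hc := cellMap_mem_C hK x c
  have hx : x = DihedralGroup.sr 1 :=
    psi_injective hK (bruhat (bnF4 hK) (C_inj_of_inter (bnF4 hK) hc hC))
  subst hx
  obtain ⟨u1, h, u'⟩ := c
  obtain ⟨t, s, hu'⟩ := Uw_sr1 hK (u' : GL chevF4.Idx K) u'.2
  set h₁ : GL chevF4.Idx K := (nW K wB)⁻¹ * nW K (wd (DihedralGroup.sr 1)) with hh₁
  have hh₁d : h₁ ∈ chevF4.diagonalSubgroup K := nW_sr1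
  have hh₁G : h₁ ∈ twistedF4 K (2 ^ m) :=
    Subgroup.mul_mem _ (Subgroup.inv_mem _ (sB K m).2) (nW_wd_mem_twisted _)
  -- `b = u1 * (s_B (h₁ h) s_B⁻¹)`
  have hd : nW K wB * (h₁ * (h : GL chevF4.Idx K)) * (nW K wB)⁻¹ ∈ chevF4.diagonalSubgroup K :=
    (mono_normalizes (nW K wB) _ (nW_mem_mono _) (Subgroup.mul_mem _ hh₁d h.2.1)).1
  have hbG : (u1 : GL chevF4.Idx K) * (nW K wB * (h₁ * (h : GL chevF4.Idx K)) * (nW K wB)⁻¹)
      ∈ twistedF4 K (2 ^ m) :=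
    Subgroup.mul_mem _ u1.2.2 (Subgroup.mul_mem _ (Subgroup.mul_mem _ (sB K m).2
      (Subgroup.mul_mem _ hh₁G h.2.2)) (Subgroup.inv_mem _ (sB K m).2))
  refine ⟨⟨_, hbG⟩, ?_, t, s, ?_⟩
  · rw [mem_B1]
    exact Subgroup.mul_mem _ (pos_le_borel' u1.2.1) (diag_le_borel hd)
  · apply Subtype.ext
    show (u1 : GL chevF4.Idx K) * nW K (wd (DihedralGroup.sr 1)) * (h : GL chevF4.Idx K)
        * (u' : GL chevF4.Idx K)
      = (u1 : GL chevF4.Idx K) * (nW K wB * (h₁ * (h : GL chevF4.Idx K)) * (nW K wB)⁻¹) * nW K wB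
        * ((gxB t s : GF K m) : GL chevF4.Idx K)
    rw [hu', hh₁]
    group

theorem act_B_ne : WF.act wB (WF.p 1) ≠ WF.act [] (WF.p 1) := by decide

omit [Fintype K] [CharP K 2] in
theorem nW_B_not_diag : nW K wB ∉ chevF4.diagonalSubgroup K := by
  intro h
  have h1 : (nW K [])⁻¹ * nW K wB ∈ chevF4.diagonalSubgroup K := by
    rw [nW_nil, inv_one, one_mul]
    exact h
  exact act_B_ne ((act_eq_of_coset [] _ isWord_nil isWord_wB h1 _ (p_lt4 1 (by norm_num))).symm)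

omit [Fintype K] in
theorem sB_not_mem : sB K m ∉ B1 K m := by
  intro h
  rw [mem_B1] at h
  apply nW_B_not_diag (K := K)
  rw [← (borel_inf_monomial_all chevF4 hD4).2]
  exact ⟨h, nW_mem_mono _⟩

omit [Fintype K] in
theorem sB_inv_not_mem : (sB K m)⁻¹ ∉ B1 K m := fun h =>
  sB_not_mem (by simpa using (B1 K m).inv_mem h)

omit [Fintype K] in
theorem sB_sq_mem : sB K m * sB K m ∈ B1 K m := by
  rw [mem_B1]
  exact diag_le_borel (nW_sq_diag wB (Or.inr rfl))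

theorem gyB_mem_Qb (hK : Fintype.card K = 2 ^ (2 * m + 1)) (t u : K) :
    (gyB t u : GF K m) ∈ Qb hK := by
  rw [← sB_conj_gxB]
  unfold Qb BNPair.parabolic
  have hs : sB K m ∈ (bnF4 hK).B ⊔ Subgroup.closure {sB K m} :=
    Subgroup.mem_sup_right (Subgroup.subset_closure rfl)
  have hb : (gxB t u : GF K m) ∈ (bnF4 hK).B ⊔ Subgroup.closure {sB K m} := by
    apply Subgroup.mem_sup_left
    rw [bnF4_B]
    exact gxB_mem_B1 t u
  exact Subgroup.mul_mem _ (Subgroup.mul_mem _ hs hb) (Subgroup.inv_mem _ hs)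

/-- the cell of the second fundamental reflection: existence -/
theorem cov' (hK : Fintype.card K = 2 ^ (2 * m + 1)) (hm : 1 ≤ m) (t u : K)
    (h1 : (gyB t u : GF K m) ≠ 1) :
    ∃ t' u', ∃ b ∈ B1 K m, (gyB t u : GF K m) = gxB t' u' * (sB K m)⁻¹ * b := by
  have Q := fieldOK hK hm
  -- the inverse
  have hinv : (gyB t u : GF K m)⁻¹ ∈ (SY hK).sub Q := Subgroup.inv_mem _ ⟨t, u, rfl⟩
  obtain ⟨t₁, u₁, e₁⟩ := hinv
  have e₁' : (gyB t u : GF K m)⁻¹ = gyB t₁ u₁ := e₁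
  have hne : (gyB t₁ u₁ : GF K m) ∉ B1 K m := by
    intro hB
    have := gyB_eq_one_of_mem_B1 t₁ u₁ hB
    rw [← e₁', inv_eq_one] at this
    exact h1 this
  obtain ⟨b, hb, t₂, u₂, e₂⟩ := cell_Qb hK _ (gyB_mem_Qb hK t₁ u₁) hne
  have hx : (gxB t₂ u₂ : GF K m)⁻¹ ∈ (SX hK).sub Q := Subgroup.inv_mem _ ⟨t₂, u₂, rfl⟩
  obtain ⟨t₃, u₃, e₃⟩ := hx
  have e₃' : (gxB t₂ u₂ : GF K m)⁻¹ = gxB t₃ u₃ := e₃
  refine ⟨t₃, u₃, b⁻¹, Subgroup.inv_mem _ hb, ?_⟩
  rw [← e₃', ← inv_inv (gyB t u : GF K m), e₁', e₂]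
  group

/-- the cell of the second fundamental reflection: uniqueness -/
theorem uniq' (hK : Fintype.card K = 2 ^ (2 * m + 1)) (hm : 1 ≤ m) (t u t' u' : K) (b : GF K m)
    (hb : b ∈ B1 K m)
    (e : (gxB t u : GF K m) * (sB K m)⁻¹ * b = gxB t' u' * (sB K m)⁻¹) : t = t' ∧ u = u' := by
  have Q := fieldOK hK hm
  have hx : (gxB t' u' : GF K m)⁻¹ * gxB t u ∈ (SX hK).sub Q :=
    Subgroup.mul_mem _ (Subgroup.inv_mem _ ⟨t', u', rfl⟩) ⟨t, u, rfl⟩
  obtain ⟨t₁, u₁, e₁⟩ := hx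
  have e₁' : (gxB t' u' : GF K m)⁻¹ * gxB t u = gxB t₁ u₁ := e₁
  have h2 : sB K m * gxB t₁ u₁ * (sB K m)⁻¹ = b⁻¹ := by
    rw [← e₁']
    have : (gxB t u : GF K m) = gxB t' u' * (sB K m)⁻¹ * b⁻¹ * sB K m := by
      rw [← e]
      group
    rw [this]
    group
  rw [sB_conj_gxB] at h2
  have h3 := gyB_eq_one_of_mem_B1 t₁ u₁ (by rw [h2]; exact Subgroup.inv_mem _ hb)
  have h4 : (gxB t₁ u₁ : GF K m) = 1 := by
    rw [← sB_conj_gxB] at h3
    have : (gxB t₁ u₁ : GF K m) = (sB K m)⁻¹ * (sB K m * gxB t₁ u₁ * (sB K m)⁻¹) * sB K m := by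
      group
    rw [this, h3]
    group
  rw [h4] at e₁'
  have h5 : (gxB t u : GF K m) = gxB t' u' := (inv_mul_eq_one.1 e₁').symm
  exact gxB_inj _ _ _ _ h5

end Cfsg.Agent.F4Out
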