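import Cfsg.Agent.Lib.Helper8.BT2.Orders
import Cfsg.Agent.Lib.Lead.F4Out.SuzShape
import Cfsg.Agent.Lib.Lead.TwShapeGen
import Mathlib

/-!
# The four families of generators of the large Ree groups (lead)

`gxA t`, `gyA t` (pairs of roots, rank one of type `A₁`), `gxB t u`, `gyB t u` (classes of type `B₂`, rank one
of Suzuki type) in `GF K m = ²F₄(2^(2m+1))`: product laws, injectivity, conjugation by the generators of the
Weyl group, the rank one family `RA`, the action of the torus (`tG μ`, characters `chA`, `chB`) and of the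
torus of the family `A` (`hA a`) on the families `B`.
-/

set_option autoImplicit false
set_option maxRecDepth 100000
set_option linter.unusedSectionVars false
set_option linter.unusedSimpArgs false

namespace Cfsg.Agent.F4Out

open Cfsg Cfsg.Lie Cfsg.Agent.Lib.Helper5.Chev Cfsg.Agent.Lib.Helper5.GA Cfsg.Agent.Lib.Helper5.Tw
open Cfsg.Agent.Lib.Helper5.F4W Cfsg.Agent.Lib.Helper8.F4T
open Cfsg.Agent.ChevAut Cfsg.Agent.TwRankOne Cfsg.Agent.TwRankOne.Shape

section general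

variable {K : Type*} [Field K] [CharP K 2]

/-- the four further commutations of a class of type `B₂` in characteristic two -/
structure B2Comm (S : B2Side K) : Prop where
  a1 : ∀ A B : K, Commute ((hadd4 K).xU S.ra A) ((hadd4 K).xU S.r1 B)
  a2 : ∀ A B : K, Commute ((hadd4 K).xU S.ra A) ((hadd4 K).xU S.r2 B)
  b1 : ∀ A B : K, Commute ((hadd4 K).xU S.rb A) ((hadd4 K).xU S.r1 B)
  b2 : ∀ A B : K, Commute ((hadd4 K).xU S.rb A) ((hadd4 K).xU S.r2 B)

/-- the product of two words of a class of type `B₂` -/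
theorem b2_w4_mul (S : B2Side K) (C : B2Comm S) (a b c d a' b' c' d' : K) :
    (hadd4 K).wordU (S.w4 a b c d) * (hadd4 K).wordU (S.w4 a' b' c' d')
      = (hadd4 K).wordU (S.w4 (a + a') (b + b') (c + c' + a' * b) (d + d' + a' ^ 2 * b)) := by
  rw [B2Side.wordU_w4, B2Side.wordU_w4, B2Side.wordU_w4]
  set xa := fun t : K => (hadd4 K).xU S.ra t
  set xb := fun t : K => (hadd4 K).xU S.rb t
  set x1 := fun t : K => (hadd4 K).xU S.r1 t
  set x2 := fun t : K => (hadd4 K).xU S.r2 t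
  show xa a * xb b * (x1 c * x2 d) * (xa a' * xb b' * (x1 c' * x2 d'))
    = xa (a + a') * xb (b + b') * (x1 (c + c' + a' * b) * x2 (d + d' + a' ^ 2 * b))
  have hadd : ∀ (r : ℕ) (s t : K), (hadd4 K).xU r (s + t) = (hadd4 K).xU r s * (hadd4 K).xU r t :=
    fun r s t => (xU_add4 r s t).symm
  have e1 : x1 c * x2 d * xa a' = xa a' * (x1 c * x2 d) := by
    rw [mul_assoc, ← (C.a2 a' d).eq, ← mul_assoc, ← (C.a1 a' c).eq, mul_assoc]
  have e2 : xb b * xa a' = xa a' * xb b * (x1 (a' * b) * x2 (a' ^ 2 * b)) := S.hcomm a' b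
  have e3 : x1 c * x2 d * xb b' = xb b' * (x1 c * x2 d) := by
    rw [mul_assoc, ← (C.b2 b' d).eq, ← mul_assoc, ← (C.b1 b' c).eq, mul_assoc]
  have e4 : x1 (a' * b) * x2 (a' ^ 2 * b) * xb b' = xb b' * (x1 (a' * b) * x2 (a' ^ 2 * b)) := by
    rw [mul_assoc, ← (C.b2 b' _).eq, ← mul_assoc, ← (C.b1 b' _).eq, mul_assoc]
  have e5 : ∀ p q r s : K, x1 p * x2 q * (x1 r * x2 s) = x1 (p + r) * x2 (q + s) := by
    intro p q r s
    show (hadd4 K).xU S.r1 p * (hadd4 K).xU S.r2 q * ((hadd4 K).xU S.r1 r * (hadd4 K).xU S.r2 s)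
      = (hadd4 K).xU S.r1 (p + r) * (hadd4 K).xU S.r2 (q + s)
    rw [hadd, hadd, mul_assoc, ← mul_assoc ((hadd4 K).xU S.r2 q), (S.c12 r q).symm.eq]
    simp only [mul_assoc]
  calc xa a * xb b * (x1 c * x2 d) * (xa a' * xb b' * (x1 c' * x2 d'))
      = xa a * xb b * ((x1 c * x2 d) * xa a') * xb b' * (x1 c' * x2 d') := by simp only [mul_assoc]
    _ = xa a * (xb b * xa a') * (x1 c * x2 d) * xb b' * (x1 c' * x2 d') := by
        rw [e1]; simp only [mul_assoc]
    _ = xa a * xa a' * xb b * ((x1 (a' * b) * x2 (a' ^ 2 * b)) * (x1 c * x2 d) * xb b')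
          * (x1 c' * x2 d') := by
        rw [e2]; simp only [mul_assoc]
    _ = xa a * xa a' * xb b * (x1 (a' * b + c) * x2 (a' ^ 2 * b + d) * xb b')
          * (x1 c' * x2 d') := by rw [e5]
    _ = xa a * xa a' * (xb b * xb b') * (x1 (a' * b + c) * x2 (a' ^ 2 * b + d) * (x1 c' * x2 d')) := by
        have : x1 (a' * b + c) * x2 (a' ^ 2 * b + d) * xb b'
            = xb b' * (x1 (a' * b + c) * x2 (a' ^ 2 * b + d)) := by
          rw [mul_assoc, ← (C.b2 b' _).eq, ← mul_assoc, ← (C.b1 b' _).eq, mul_assoc]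
        rw [this]; simp only [mul_assoc]
    _ = xa (a + a') * xb (b + b') * (x1 (c + c' + a' * b) * x2 (d + d' + a' ^ 2 * b)) := by
        rw [e5]
        show (hadd4 K).xU S.ra a * (hadd4 K).xU S.ra a' * ((hadd4 K).xU S.rb b * (hadd4 K).xU S.rb b')
          * _ = _
        rw [← hadd, ← hadd]
        congr 3 <;> ring

end general

section fam

variable {K : Type*} [Field K] [Fintype K] [CharP K 2] {m : ℕ}

/-- the large Ree group -/
abbrev GF (K : Type*) [Field K] (m : ℕ) : Type _ := ↥(twistedF4 K (2 ^ m))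

theorem Q4comm : B2Comm (Q4 K) where
  a1 := Cfsg.Agent.Lib.Helper5.Ree.commute_of_check 2 DataF4.agrees (hadd4 K) 27 28 (by decide +kernel)
  a2 := Cfsg.Agent.Lib.Helper5.Ree.commute_of_check 2 DataF4.agrees (hadd4 K) 27 30 (by decide +kernel)
  b1 := Cfsg.Agent.Lib.Helper5.Ree.commute_of_check 2 DataF4.agrees (hadd4 K) 25 28 (by decide +kernel)
  b2 := Cfsg.Agent.Lib.Helper5.Ree.commute_of_check 2 DataF4.agrees (hadd4 K) 25 30 (by decide +kernel)

theorem Q4ncomm : B2Comm (Q4n K) where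
  a1 := Cfsg.Agent.Lib.Helper5.Ree.commute_of_check 2 DataF4.agrees (hadd4 K) 20 19 (by decide +kernel)
  a2 := Cfsg.Agent.Lib.Helper5.Ree.commute_of_check 2 DataF4.agrees (hadd4 K) 20 17 (by decide +kernel)
  b1 := Cfsg.Agent.Lib.Helper5.Ree.commute_of_check 2 DataF4.agrees (hadd4 K) 22 19 (by decide +kernel)
  b2 := Cfsg.Agent.Lib.Helper5.Ree.commute_of_check 2 DataF4.agrees (hadd4 K) 22 17 (by decide +kernel)

/-- the product of two fixed words of a class of type `B₂` -/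
theorem b2_rw_mul (hK : Fintype.card K = 2 ^ (2 * m + 1)) (S : B2Side K) (C : B2Comm S)
    (t u t' u' : K) :
    (hadd4 K).wordU (S.rw m t u) * (hadd4 K).wordU (S.rw m t' u')
      = (hadd4 K).wordU (S.rw m (t + t') (u + u' + t ^ 2 ^ m * t')) := by
  unfold B2Side.rw
  rw [b2_w4_mul S C]
  have h2 : ∀ x : K, x + x = 0 := fun x => CharTwo.add_self_eq_zero x
  congr 2
  · rw [map_add]
  · rw [map_add, ← ph1_apply (m := m)]
    calc ph1 K m t * t + u + (ph1 K m t' * t' + u') + ph1 K m t' * t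
        = (ph1 K m t + ph1 K m t') * (t + t') + (u + u' + ph1 K m t * t')
          - (ph1 K m t * t' + ph1 K m t * t') := by ring
      _ = (ph1 K m t + ph1 K m t') * (t + t') + (u + u' + ph1 K m t * t') := by
          rw [h2, sub_zero]
  · rw [map_add, map_add, map_mul, ← ph1_apply (m := m), ph2_ph1 hK, ph1_pow2]
    ring

/-- the four families of generators -/
noncomputable def gxA (t : K) : GF K m := ⟨(hadd4 K).wordU ((P1 K).rw m t), P1rw_mem t⟩
noncomputable def gyA (t : K) : GF K m :=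
  ⟨(hadd4 K).wordU ((P1n K).rw m t), by rw [P1n_rw]; exact pairV_mem_twisted _ t⟩
noncomputable def gxB (t u : K) : GF K m := ⟨(hadd4 K).wordU ((Q4 K).rw m t u), Q4rw_mem t u⟩
noncomputable def gyB (t u : K) : GF K m :=
  ⟨(hadd4 K).wordU ((Q4n K).rw m t u), by rw [Q4n_rw]; exact b2V_mem_twisted _ t u⟩

theorem gxB_mul (hK : Fintype.card K = 2 ^ (2 * m + 1)) (t u t' u' : K) :
    (gxB t u : GF K m) * gxB t' u' = gxB (t + t') (u + u' + t ^ 2 ^ m * t') :=
  Subtype.ext (b2_rw_mul hK (Q4 K) Q4comm t u t' u')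

theorem gyB_mul (hK : Fintype.card K = 2 ^ (2 * m + 1)) (t u t' u' : K) :
    (gyB t u : GF K m) * gyB t' u' = gyB (t + t') (u + u' + t ^ 2 ^ m * t') :=
  Subtype.ext (b2_rw_mul hK (Q4n K) Q4ncomm t u t' u')

theorem gxA_val (t : K) : ((gxA t : GF K m) : GL chevF4.Idx K)
    = (hadd4 K).xU 33 (ph1 K m t) * (hadd4 K).xU 24 t := (P1 K).wordU_w2 _ _

theorem gyA_val (t : K) : ((gyA t : GF K m) : GL chevF4.Idx K)
    = (hadd4 K).xU 14 (ph1 K m t) * (hadd4 K).xU 23 t := (P1n K).wordU_w2 _ _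

theorem gxB_val (t u : K) : ((gxB t u : GF K m) : GL chevF4.Idx K)
    = (hadd4 K).xU 27 (ph1 K m t) * (hadd4 K).xU 25 t *
      ((hadd4 K).xU 28 (ph1 K m t * t + u) * (hadd4 K).xU 30 (ph2 K m u)) := (Q4 K).wordU_w4 _ _ _ _

theorem gyB_val (t u : K) : ((gyB t u : GF K m) : GL chevF4.Idx K)
    = (hadd4 K).xU 20 (ph1 K m t) * (hadd4 K).xU 22 t *
      ((hadd4 K).xU 19 (ph1 K m t * t + u) * (hadd4 K).xU 17 (ph2 K m u)) := (Q4n K).wordU_w4 _ _ _ _

/-- the parameters of an element of the family `gxB` are determined -/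
theorem gxB_inj (t u t' u' : K) (h : (gxB t u : GF K m) = gxB t' u') : t = t' ∧ u = u' := by
  have key : ∀ a b : K, (hadd4 K).wordU (uw K m ![0, 0, 0, 0, 0, 0, 0, 0, 0, 0, a, b])
      = (hadd4 K).wordU ((Q4 K).rw m a b) := by
    intro a b
    unfold uw
    simp only [Cfsg.Agent.Lib.Helper5.Tw.wordU_append, Matrix.cons_val_zero, Matrix.cons_val_one, Matrix.cons_val,
      pair_rw_zero, b2_rw_zero, one_mul]
  have e : (hadd4 K).wordU ((Q4 K).rw m t u) = (hadd4 K).wordU ((Q4 K).rw m t' u') :=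
    congrArg Subtype.val h
  rw [← key, ← key] at e
  have := uw_injective _ _ e
  have h10 := congrFun this 10
  have h11 := congrFun this 11
  simp only [Matrix.cons_val] at h10 h11
  exact ⟨h10, h11⟩

theorem gxA_inj (t t' : K) (h : (gxA t : GF K m) = gxA t') : t = t' := by
  have key : ∀ a : K, (hadd4 K).wordU (uw K m ![a, 0, 0, 0, 0, 0, 0, 0, 0, 0, 0, 0])
      = (hadd4 K).wordU ((P1 K).rw m a) := by
    intro a
    unfold uw
    simp only [Cfsg.Agent.Lib.Helper5.Tw.wordU_append, Matrix.cons_val_zero, Matrix.cons_val_one, Matrix.cons_val,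
      pair_rw_zero, b2_rw_zero, mul_one]
  have e : (hadd4 K).wordU ((P1 K).rw m t) = (hadd4 K).wordU ((P1 K).rw m t') :=
    congrArg Subtype.val h
  rw [← key, ← key] at e
  have := uw_injective _ _ e
  have h0 := congrFun this 0
  simpa using h0

theorem wA_lt : ∀ i ∈ wA, i < chevF4.rank := by decide
theorem wB_lt : ∀ i ∈ wB, i < chevF4.rank := by decide

theorem P1n_rw_lt (t : K) : ∀ p ∈ (P1n K).rw m t, p.1 < chevF4.nroots := by
  intro p hp
  have : p = (14, ph1 K m t) ∨ p = (23, t) := by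
    simpa [PairSide.rw, PairSide.w2, P1n, mkPair] using hp
  rcases this with rfl | rfl
  · show (14 : ℕ) < chevF4.nroots
    decide
  · show (23 : ℕ) < chevF4.nroots
    decide

/-- the opposite families are the conjugates under the generators of the Weyl group -/
theorem sA_conj_gxA (t : K) : sA K m * gxA t * (sA K m)⁻¹ = gyA t := by
  apply Subtype.ext
  show nW K wA * (hadd4 K).wordU ((P1 K).rw m t) * (nW K wA)⁻¹ = (hadd4 K).wordU ((P1n K).rw m t)
  unfold nW
  rw [conj_wordU2 wA wA_lt _ (P1rw_lt t)]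
  have e33 : wW BsF4.Bs wA 33 = 14 := by decide
  have e24 : wW BsF4.Bs wA 24 = 23 := by decide
  show (hadd4 K).wordU [(wW BsF4.Bs wA 33, ph1 K m t), (wW BsF4.Bs wA 24, t)] = _
  rw [e33, e24]
  rfl

theorem sB_conj_gxB (t u : K) : sB K m * gxB t u * (sB K m)⁻¹ = gyB t u := by
  apply Subtype.ext
  show nW K wB * (hadd4 K).wordU ((Q4 K).rw m t u) * (nW K wB)⁻¹
    = (hadd4 K).wordU ((Q4n K).rw m t u)
  unfold nW
  rw [conj_wordU2 wB wB_lt _ (Q4rw_lt t u)]
  have e27 : wW BsF4.Bs wB 27 = 20 := by decide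
  have e25 : wW BsF4.Bs wB 25 = 22 := by decide
  have e28 : wW BsF4.Bs wB 28 = 19 := by decide
  have e30 : wW BsF4.Bs wB 30 = 17 := by decide
  show (hadd4 K).wordU [(wW BsF4.Bs wB 27, ph1 K m t), (wW BsF4.Bs wB 25, t),
    (wW BsF4.Bs wB 28, ph1 K m t * t + u), (wW BsF4.Bs wB 30, ph2 K m u)] = _
  rw [e27, e25, e28, e30]
  rfl

theorem gyB_inj (t u t' u' : K) (h : (gyB t u : GF K m) = gyB t' u') : t = t' ∧ u = u' := by
  rw [← sB_conj_gxB, ← sB_conj_gxB] at h
  exact gxB_inj _ _ _ _ (mul_left_cancel (mul_right_cancel h))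

theorem gyA_inj (t t' : K) (h : (gyA t : GF K m) = gyA t') : t = t' := by
  rw [← sA_conj_gxA, ← sA_conj_gxA] at h
  exact gxA_inj _ _ (mul_left_cancel (mul_right_cancel h))

/-! ### the family `A` as a rank one family -/

theorem hF4' : chevF4 ∈ [chevG2, chevB2, chevD4, chevF4, chevE6, chevE7, chevE8] := by simp

omit [Fintype K] [CharP K 2] in
/-- the rank one swap for the four fundamental roots of `F₄` -/
theorem swap1 (i : ℕ) (hi : i < 4) (s : K) :
    chevF4.nMat K (chevF4.simple i) 1 * chevF4.x K (chevF4.simple i) s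
      = chevF4.x K (chevF4.neg (chevF4.simple i)) (-s) * chevF4.nMat K (chevF4.simple i) 1 := by
  have hadd := allAdd_all (F := K) chevF4 hF4'
  obtain ⟨hp, hq⟩ := simple_lt_all chevF4 hF4' i hi
  have e := nU_conj_xU DataF4.agrees hadd i (BsF4.Bs.getD i 0) hi (HsF4.reflBs' i hi) hp hq s
  rw [mul_inv_eq_iff_eq_mul] at e
  have e' := congrArg Units.val e
  have heta : etaOf (BsF4.Bs.getD i 0) (chevF4.simple i) = -1 := by
    interval_cases i <;> decide
  rw [heta] at e'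
  have : ((-1 : ℤ) : K) * s = -s := by push_cast; ring
  rw [this] at e'
  exact e'

/-- the orbit `{p₁, p₄}` -/
def LA : List ℕ := [0, 3]

theorem orthA : LA.Pairwise (Orth chevF4) := by decide +kernel
theorem ltA : ∀ k ∈ LA, k < chevF4.rank := by decide
theorem cartA : CartOrth chevF4 LA := by decide +kernel

/-- the parametrisation `(t^θ, t)` of the orbit -/
noncomputable def ρA (K : Type*) [Field K] [CharP K 2] (m : ℕ) : ℕ → K →+* K :=
  fun i => if i = 0 then ph1 K m else RingHom.id K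

noncomputable def OA (K : Type*) [Field K] [CharP K 2] (m : ℕ) : Orbit K chevF4 K :=
  { L := LA, ρ := ρA K m, hL := ltA, hp := orthA, hc := cartA
    hsw := fun i hi s => swap1 i (ltA i hi) s, i0 := 3, hi0 := by decide }

theorem XR_A (t : K) :
    XR chevF4 (OA K m).L (OA K m).ρ t = chevF4.x K 33 (ph1 K m t) * chevF4.x K 24 t := by
  show XJ K chevF4 [0, 3] (fun i => ρA K m i t) = _
  unfold XJ
  simp only [List.map_cons, List.map_nil, List.prod_cons, List.prod_nil, mul_one]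
  rfl

theorem YR_A (t : K) :
    YR chevF4 (OA K m).L (OA K m).ρ t = chevF4.x K 14 (ph1 K m t) * chevF4.x K 23 t := by
  show YJ K chevF4 [0, 3] (fun i => ρA K m i t) = _
  unfold YJ
  simp only [List.map_cons, List.map_nil, List.prod_cons, List.prod_nil, mul_one]
  rfl

/-- the inclusion of the large Ree group -/
abbrev incl (K : Type*) [Field K] (m : ℕ) : GF K m →* GL chevF4.Idx K := (twistedF4 K (2 ^ m)).subtype

theorem incl_inj : Function.Injective (incl K m) := Subtype.val_injective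

theorem hXA (t : K) : (incl K m (gxA t)).val = XR chevF4 (OA K m).L (OA K m).ρ t := by
  rw [XR_A]
  show ((gxA t : GF K m) : GL chevF4.Idx K).val = _
  rw [gxA_val, Units.val_mul]
  rfl

theorem hYA (t : K) : (incl K m (gyA t)).val = YR chevF4 (OA K m).L (OA K m).ρ t := by
  rw [YR_A]
  show ((gyA t : GF K m) : GL chevF4.Idx K).val = _
  rw [gyA_val, Units.val_mul]
  rfl

/-- the rank one family `A` -/
noncomputable def RA (K : Type*) [Field K] [Fintype K] [CharP K 2] (m : ℕ) : RFam K (GF K m) :=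
  RFam.ofMatrix hF4' (OA K m) (incl K m) incl_inj gxA gyA hXA hYA

/-! ### conjugation by elements acting through characters -/

theorem conj_mul4 {M : Type*} [Group M] (g a b c d : M) :
    g * (a * b * (c * d)) * g⁻¹ = (g * a * g⁻¹) * (g * b * g⁻¹) * ((g * c * g⁻¹) * (g * d * g⁻¹)) := by
  group

theorem conj_mul2 {M : Type*} [Group M] (g a b : M) :
    g * (a * b) * g⁻¹ = (g * a * g⁻¹) * (g * b * g⁻¹) := by
  group

/-- conjugation of a fixed word of a class of type `B₂` -/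
theorem conj_b2_rw (hK : Fintype.card K = 2 ^ (2 * m + 1)) (S : B2Side K) (g : GL chevF4.Idx K)
    (cb : K)
    (ha : ∀ t, g * (hadd4 K).xU S.ra t * g⁻¹ = (hadd4 K).xU S.ra (ph1 K m cb * t))
    (hb : ∀ t, g * (hadd4 K).xU S.rb t * g⁻¹ = (hadd4 K).xU S.rb (cb * t))
    (h1 : ∀ t, g * (hadd4 K).xU S.r1 t * g⁻¹ = (hadd4 K).xU S.r1 (ph1 K m cb * cb * t))
    (h2 : ∀ t, g * (hadd4 K).xU S.r2 t * g⁻¹ = (hadd4 K).xU S.r2 (ph2 K m cb * cb * t))
    (t u : K) :
    g * (hadd4 K).wordU (S.rw m t u) * g⁻¹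
      = (hadd4 K).wordU (S.rw m (cb * t) (cb ^ (2 ^ m + 1) * u)) := by
  unfold B2Side.rw
  rw [B2Side.wordU_w4, B2Side.wordU_w4, conj_mul4, ha, hb, h1, h2]
  have e1 : cb ^ (2 ^ m + 1) = ph1 K m cb * cb := by rw [pow_succ, ph1_apply]
  congr 2
  · rw [map_mul]
  · congr 1
    rw [map_mul, e1]
    ring
  · congr 1
    rw [map_mul, e1, map_mul, ph2_ph1 hK]
    ring

/-- conjugation of a fixed word of a pair -/
theorem conj_pair_rw (S : PairSide K) (g : GL chevF4.Idx K) (c : K)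
    (hs : ∀ t, g * (hadd4 K).xU S.rs t * g⁻¹ = (hadd4 K).xU S.rs (ph1 K m c * t))
    (hl : ∀ t, g * (hadd4 K).xU S.rl t * g⁻¹ = (hadd4 K).xU S.rl (c * t))
    (t : K) :
    g * (hadd4 K).wordU (S.rw m t) * g⁻¹ = (hadd4 K).wordU (S.rw m (c * t)) := by
  unfold PairSide.rw
  rw [PairSide.wordU_w2, PairSide.wordU_w2, conj_mul2, hs, hl, map_mul]

/-! ### the torus -/

/-- the characters of an element of the torus, with values in `K` -/
theorem tauT_chi (hK : Fintype.card K = 2 ^ (2 * m + 1)) (μ : Kˣ × Kˣ) : ∃ χ : ℕ → K,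
    (∀ s < chevF4.nroots, ∀ u : K, tauT K m μ * (hadd4 K).xU s u * (tauT K m μ)⁻¹
      = (hadd4 K).xU s (χ s * u)) ∧
    ∀ (v : ℕ) (hv : v < chevF4.nroots) (c0 c1 c2 c3 : ℤ),
      cartanM chevF4 j0 ⟨v, hv⟩ = c0 → cartanM chevF4 j1 ⟨v, hv⟩ = c1 →
      cartanM chevF4 j2 ⟨v, hv⟩ = c2 → cartanM chevF4 j3 ⟨v, hv⟩ = c3 →
      χ v = (ph1 K m (μ.1 : K)) ^ c0 * (ph1 K m (μ.2 : K)) ^ c1 * (μ.2 : K) ^ c2 * (μ.1 : K) ^ c3 := by
  obtain ⟨χ, h1, h2⟩ := tauT_char hK μ
  refine ⟨fun s => (χ s : K), h1, ?_⟩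
  intro v hv c0 c1 c2 c3 e0 e1 e2 e3
  show ((χ v : Kˣ) : K) = _
  rw [h2 v hv, e0, e1, e2, e3]
  simp only [Units.val_mul, Units.val_zpow_eq_zpow_val, Units.coe_map]
  rfl

/-- the elements of the torus, in the large Ree group -/
noncomputable def tG (hK : Fintype.card K = 2 ^ (2 * m + 1)) (μ : Kˣ × Kˣ) : GF K m :=
  ⟨tauT K m μ, tauT_mem_twisted hK μ⟩

/-- the two characters of the torus on the fundamental families -/
noncomputable def chA (μ : Kˣ × Kˣ) : K := (μ.2 : K)⁻¹ * (μ.1 : K) ^ 2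
noncomputable def chB (m : ℕ) (μ : Kˣ × Kˣ) : K :=
  ((ph1 K m (μ.2 : K)) ^ 2)⁻¹ * (μ.2 : K) ^ 2 * (μ.1 : K)⁻¹

theorem chA_ne (μ : Kˣ × Kˣ) : chA μ ≠ 0 := by
  unfold chA
  exact mul_ne_zero (inv_ne_zero μ.2.ne_zero) (pow_ne_zero _ μ.1.ne_zero)

theorem chB_ne (μ : Kˣ × Kˣ) : chB m μ ≠ 0 := by
  unfold chB
  exact mul_ne_zero (mul_ne_zero (inv_ne_zero (pow_ne_zero _ ((map_ne_zero _).2 μ.2.ne_zero)))
    (pow_ne_zero _ μ.2.ne_zero)) (inv_ne_zero μ.1.ne_zero)

theorem ph1_ph1_sq (hK : Fintype.card K = 2 ^ (2 * m + 1)) (x : K) :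
    (ph1 K m (ph1 K m x)) ^ 2 = x := by
  rw [ph1_pow2, ph2_ph1 hK]

theorem tG_conj_gxA (hK : Fintype.card K = 2 ^ (2 * m + 1)) (μ : Kˣ × Kˣ) (t : K) :
    tG hK μ * gxA t * (tG hK μ)⁻¹ = gxA (chA μ * t) := by
  obtain ⟨χ, h1, h2⟩ := tauT_chi hK μ
  apply Subtype.ext
  show tauT K m μ * (hadd4 K).wordU ((P1 K).rw m t) * (tauT K m μ)⁻¹ = _
  refine conj_pair_rw (P1 K) _ (chA μ) ?_ ?_ t
  · intro u
    show tauT K m μ * (hadd4 K).xU 33 u * (tauT K m μ)⁻¹ = (hadd4 K).xU 33 _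
    rw [h1 33 (by decide), h2 33 (by decide) 2 (-1) 0 0 (by decide) (by decide) (by decide) (by decide)]
    congr 2
    unfold chA
    rw [map_mul, map_inv₀, map_pow]
    simp only [zpow_neg, zpow_ofNat, mul_inv, inv_inv, inv_pow]
    ring
  · intro u
    show tauT K m μ * (hadd4 K).xU 24 u * (tauT K m μ)⁻¹ = (hadd4 K).xU 24 _
    rw [h1 24 (by decide), h2 24 (by decide) 0 0 (-1) 2 (by decide) (by decide) (by decide) (by decide)]
    congr 2
    unfold chA
    simp only [zpow_neg, zpow_ofNat, mul_inv, inv_inv, inv_pow]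
    ring

theorem tG_conj_gyA (hK : Fintype.card K = 2 ^ (2 * m + 1)) (μ : Kˣ × Kˣ) (t : K) :
    tG hK μ * gyA t * (tG hK μ)⁻¹ = gyA ((chA μ)⁻¹ * t) := by
  obtain ⟨χ, h1, h2⟩ := tauT_chi hK μ
  apply Subtype.ext
  show tauT K m μ * (hadd4 K).wordU ((P1n K).rw m t) * (tauT K m μ)⁻¹ = _
  refine conj_pair_rw (P1n K) _ (chA μ)⁻¹ ?_ ?_ t
  · intro u
    show tauT K m μ * (hadd4 K).xU 14 u * (tauT K m μ)⁻¹ = (hadd4 K).xU 14 _
    rw [h1 14 (by decide), h2 14 (by decide) (-2) 1 0 0 (by decide) (by decide) (by decide) (by decide)]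
    congr 2
    unfold chA
    rw [map_inv₀, map_mul, map_inv₀, map_pow]
    simp only [zpow_neg, zpow_ofNat, mul_inv, inv_inv, inv_pow]
    ring
  · intro u
    show tauT K m μ * (hadd4 K).xU 23 u * (tauT K m μ)⁻¹ = (hadd4 K).xU 23 _
    rw [h1 23 (by decide), h2 23 (by decide) 0 0 1 (-2) (by decide) (by decide) (by decide) (by decide)]
    congr 2
    unfold chA
    simp only [zpow_neg, zpow_ofNat, mul_inv, inv_inv, inv_pow]
    ring

theorem ph1_chB (hK : Fintype.card K = 2 ^ (2 * m + 1)) (μ : Kˣ × Kˣ) :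
    ph1 K m (chB m μ) = (μ.2 : K)⁻¹ * (ph1 K m (μ.2 : K)) ^ 2 * (ph1 K m (μ.1 : K))⁻¹ := by
  unfold chB
  rw [map_mul, map_mul, map_inv₀, map_inv₀, map_pow, map_pow, ph1_ph1_sq hK]

theorem ph2_eq (x : K) : ph2 K m x = (ph1 K m x) ^ 2 := (ph1_pow2 x).symm

theorem tG_conj_gxB (hK : Fintype.card K = 2 ^ (2 * m + 1)) (μ : Kˣ × Kˣ) (t u : K) :
    tG hK μ * gxB t u * (tG hK μ)⁻¹ = gxB (chB m μ * t) ((chB m μ) ^ (2 ^ m + 1) * u) := by
  obtain ⟨χ, h1, h2⟩ := tauT_chi hK μ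
  have hA : ph1 K m (μ.1 : K) ≠ 0 := (map_ne_zero _).2 μ.1.ne_zero
  have hB : ph1 K m (μ.2 : K) ≠ 0 := (map_ne_zero _).2 μ.2.ne_zero
  have hM1 : (μ.1 : K) ≠ 0 := μ.1.ne_zero
  have hM2 : (μ.2 : K) ≠ 0 := μ.2.ne_zero
  apply Subtype.ext
  show tauT K m μ * (hadd4 K).wordU ((Q4 K).rw m t u) * (tauT K m μ)⁻¹ = _
  refine conj_b2_rw hK (Q4 K) _ (chB m μ) ?_ ?_ ?_ ?_ t u
  · intro u
    show tauT K m μ * (hadd4 K).xU 27 u * (tauT K m μ)⁻¹ = (hadd4 K).xU 27 _
    rw [h1 27 (by decide), h2 27 (by decide) (-1) 2 (-1) 0 (by decide) (by decide) (by decide)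
      (by decide), ph1_chB hK]
    congr 2
    simp only [zpow_neg, zpow_ofNat, zpow_one, zpow_zero, mul_inv, inv_inv, inv_pow]
    ring
  · intro u
    show tauT K m μ * (hadd4 K).xU 25 u * (tauT K m μ)⁻¹ = (hadd4 K).xU 25 _
    rw [h1 25 (by decide), h2 25 (by decide) 0 (-2) 2 (-1) (by decide) (by decide) (by decide)
      (by decide)]
    congr 2
    unfold chB
    simp only [zpow_neg, zpow_ofNat, zpow_one, zpow_zero, mul_inv, inv_inv, inv_pow]
    ring
  · intro u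
    show tauT K m μ * (hadd4 K).xU 28 u * (tauT K m μ)⁻¹ = (hadd4 K).xU 28 _
    rw [h1 28 (by decide), h2 28 (by decide) (-1) 0 1 (-1) (by decide) (by decide) (by decide)
      (by decide), ph1_chB hK]
    congr 2
    unfold chB
    simp only [zpow_neg, zpow_ofNat, zpow_one, zpow_zero, mul_inv, inv_inv, inv_pow]
    field_simp
  · intro u
    show tauT K m μ * (hadd4 K).xU 30 u * (tauT K m μ)⁻¹ = (hadd4 K).xU 30 _
    rw [h1 30 (by decide), h2 30 (by decide) (-2) 2 0 (-1) (by decide) (by decide) (by decide)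
      (by decide), ph2_eq, ph1_chB hK]
    congr 2
    unfold chB
    simp only [zpow_neg, zpow_ofNat, zpow_one, zpow_zero, mul_inv, inv_inv, inv_pow]
    field_simp

theorem tG_conj_gyB (hK : Fintype.card K = 2 ^ (2 * m + 1)) (μ : Kˣ × Kˣ) (t u : K) :
    tG hK μ * gyB t u * (tG hK μ)⁻¹
      = gyB ((chB m μ)⁻¹ * t) (((chB m μ)⁻¹) ^ (2 ^ m + 1) * u) := by
  obtain ⟨χ, h1, h2⟩ := tauT_chi hK μ
  have hA : ph1 K m (μ.1 : K) ≠ 0 := (map_ne_zero _).2 μ.1.ne_zero
  have hB : ph1 K m (μ.2 : K) ≠ 0 := (map_ne_zero _).2 μ.2.ne_zero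
  have hM1 : (μ.1 : K) ≠ 0 := μ.1.ne_zero
  have hM2 : (μ.2 : K) ≠ 0 := μ.2.ne_zero
  apply Subtype.ext
  show tauT K m μ * (hadd4 K).wordU ((Q4n K).rw m t u) * (tauT K m μ)⁻¹ = _
  refine conj_b2_rw hK (Q4n K) _ (chB m μ)⁻¹ ?_ ?_ ?_ ?_ t u
  · intro u
    show tauT K m μ * (hadd4 K).xU 20 u * (tauT K m μ)⁻¹ = (hadd4 K).xU 20 _
    rw [h1 20 (by decide), h2 20 (by decide) 1 (-2) 1 0 (by decide) (by decide) (by decide)
      (by decide), map_inv₀, ph1_chB hK]
    congr 2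
    simp only [zpow_neg, zpow_ofNat, zpow_one, zpow_zero, mul_inv, inv_inv, inv_pow]
    ring
  · intro u
    show tauT K m μ * (hadd4 K).xU 22 u * (tauT K m μ)⁻¹ = (hadd4 K).xU 22 _
    rw [h1 22 (by decide), h2 22 (by decide) 0 2 (-2) 1 (by decide) (by decide) (by decide)
      (by decide)]
    congr 2
    unfold chB
    simp only [zpow_neg, zpow_ofNat, zpow_one, zpow_zero, mul_inv, inv_inv, inv_pow]
    ring
  · intro u
    show tauT K m μ * (hadd4 K).xU 19 u * (tauT K m μ)⁻¹ = (hadd4 K).xU 19 _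
    rw [h1 19 (by decide), h2 19 (by decide) 1 0 (-1) 1 (by decide) (by decide) (by decide)
      (by decide), map_inv₀, ph1_chB hK]
    congr 2
    unfold chB
    simp only [zpow_neg, zpow_ofNat, zpow_one, zpow_zero, mul_inv, inv_inv, inv_pow]
    field_simp
  · intro u
    show tauT K m μ * (hadd4 K).xU 17 u * (tauT K m μ)⁻¹ = (hadd4 K).xU 17 _
    rw [h1 17 (by decide), h2 17 (by decide) 2 (-2) 0 1 (by decide) (by decide) (by decide)
      (by decide), ph2_eq, map_inv₀, ph1_chB hK]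
    congr 2
    unfold chB
    simp only [zpow_neg, zpow_ofNat, zpow_one, zpow_zero, mul_inv, inv_inv, inv_pow]
    field_simp

/-! ### the torus of the family `A` on the families `B` -/

/-- the torus elements of the family `A` -/
noncomputable def hA (a : K) : GF K m := (RA K m).h a

theorem hA_val (a : K) (ha : a ≠ 0) :
    (((hA a : GF K m) : GL chevF4.Idx K) : Matrix chevF4.Idx chevF4.Idx K)
      = dProdL K chevF4 LA (fun i => ρA K m i a) :=
  RFam.ofMatrix_h_val hF4' (OA K m) (incl K m) incl_inj gxA gyA hXA hYA a ha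

theorem hA_conj_x (a : K) (ha : a ≠ 0) (s : ℕ) (hs : s < chevF4.nroots) (t : K) :
    ((hA a : GF K m) : GL chevF4.Idx K) * (hadd4 K).xU s t * ((hA a : GF K m) : GL chevF4.Idx K)⁻¹
      = (hadd4 K).xU s ((ph1 K m a) ^ (chevF4.cartan 0 s) * a ^ (chevF4.cartan 3 s) * t) := by
  rw [mul_inv_eq_iff_eq_mul]
  apply Units.ext
  rw [Units.val_mul, Units.val_mul, hA_val a ha, (hadd4 K).xU_val, (hadd4 K).xU_val]
  have hne : ∀ k ∈ LA, ρA K m k a ≠ 0 := fun k _ => (map_ne_zero _).2 ha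
  rw [dProdL_conj_x hF4' LA ltA _ hne s hs t]
  congr 2
  show (ρA K m 0 a) ^ (chevF4.cartan 0 s) * ((ρA K m 3 a) ^ (chevF4.cartan 3 s) * 1) * t = _
  rw [mul_one]
  rfl

theorem hA_conj_gxB (hK : Fintype.card K = 2 ^ (2 * m + 1)) (a : K) (ha : a ≠ 0) (t u : K) :
    (hA a : GF K m) * gxB t u * (hA a)⁻¹ = gxB (a⁻¹ * t) ((a⁻¹) ^ (2 ^ m + 1) * u) := by
  have hA0 : ph1 K m a ≠ 0 := (map_ne_zero _).2 ha
  apply Subtype.ext
  show ((hA a : GF K m) : GL chevF4.Idx K) * (hadd4 K).wordU ((Q4 K).rw m t u)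
    * ((hA a : GF K m) : GL chevF4.Idx K)⁻¹ = _
  refine conj_b2_rw hK (Q4 K) _ a⁻¹ ?_ ?_ ?_ ?_ t u
  · intro u
    show _ * (hadd4 K).xU 27 u * _ = (hadd4 K).xU 27 _
    rw [hA_conj_x a ha 27 (by decide)]
    have e0 : chevF4.cartan 0 27 = -1 := by decide
    have e3 : chevF4.cartan 3 27 = 0 := by decide
    rw [e0, e3, map_inv₀]
    congr 2
    simp only [zpow_neg, zpow_ofNat, zpow_one, zpow_zero, mul_inv, inv_inv, inv_pow]
    ring
  · intro u
    show _ * (hadd4 K).xU 25 u * _ = (hadd4 K).xU 25 _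
    rw [hA_conj_x a ha 25 (by decide)]
    have e0 : chevF4.cartan 0 25 = 0 := by decide
    have e3 : chevF4.cartan 3 25 = -1 := by decide
    rw [e0, e3]
    congr 2
    simp only [zpow_neg, zpow_ofNat, zpow_one, zpow_zero, mul_inv, inv_inv, inv_pow]
    ring
  · intro u
    show _ * (hadd4 K).xU 28 u * _ = (hadd4 K).xU 28 _
    rw [hA_conj_x a ha 28 (by decide)]
    have e0 : chevF4.cartan 0 28 = -1 := by decide
    have e3 : chevF4.cartan 3 28 = -1 := by decide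
    rw [e0, e3, map_inv₀]
    congr 2
    simp only [zpow_neg, zpow_ofNat, zpow_one, zpow_zero, mul_inv, inv_inv, inv_pow]
    ring
  · intro u
    show _ * (hadd4 K).xU 30 u * _ = (hadd4 K).xU 30 _
    rw [hA_conj_x a ha 30 (by decide)]
    have e0 : chevF4.cartan 0 30 = -2 := by decide
    have e3 : chevF4.cartan 3 30 = -1 := by decide
    rw [e0, e3, ph2_eq, map_inv₀]
    congr 2
    simp only [zpow_neg, zpow_ofNat, zpow_one, zpow_zero, mul_inv, inv_inv, inv_pow]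
    ring

theorem hA_conj_gyB (hK : Fintype.card K = 2 ^ (2 * m + 1)) (a : K) (ha : a ≠ 0) (t u : K) :
    (hA a : GF K m) * gyB t u * (hA a)⁻¹ = gyB (a * t) (a ^ (2 ^ m + 1) * u) := by
  have hA0 : ph1 K m a ≠ 0 := (map_ne_zero _).2 ha
  apply Subtype.ext
  show ((hA a : GF K m) : GL chevF4.Idx K) * (hadd4 K).wordU ((Q4n K).rw m t u)
    * ((hA a : GF K m) : GL chevF4.Idx K)⁻¹ = _
  refine conj_b2_rw hK (Q4n K) _ a ?_ ?_ ?_ ?_ t u
  · intro u
    show _ * (hadd4 K).xU 20 u * _ = (hadd4 K).xU 20 _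
    rw [hA_conj_x a ha 20 (by decide)]
    have e0 : chevF4.cartan 0 20 = 1 := by decide
    have e3 : chevF4.cartan 3 20 = 0 := by decide
    rw [e0, e3]
    congr 2
    simp only [zpow_neg, zpow_ofNat, zpow_one, zpow_zero, mul_inv, inv_inv, inv_pow, mul_one]
    ring
  · intro u
    show _ * (hadd4 K).xU 22 u * _ = (hadd4 K).xU 22 _
    rw [hA_conj_x a ha 22 (by decide)]
    have e0 : chevF4.cartan 0 22 = 0 := by decide
    have e3 : chevF4.cartan 3 22 = 1 := by decide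
    rw [e0, e3]
    congr 2
    simp only [zpow_neg, zpow_ofNat, zpow_one, zpow_zero, mul_inv, inv_inv, inv_pow, one_mul]
    ring
  · intro u
    show _ * (hadd4 K).xU 19 u * _ = (hadd4 K).xU 19 _
    rw [hA_conj_x a ha 19 (by decide)]
    have e0 : chevF4.cartan 0 19 = 1 := by decide
    have e3 : chevF4.cartan 3 19 = 1 := by decide
    rw [e0, e3]
    congr 2
    simp only [zpow_neg, zpow_ofNat, zpow_one, zpow_zero, mul_inv, inv_inv, inv_pow]
    ring
  · intro u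
    show _ * (hadd4 K).xU 17 u * _ = (hadd4 K).xU 17 _
    rw [hA_conj_x a ha 17 (by decide)]
    have e0 : chevF4.cartan 0 17 = 2 := by decide
    have e3 : chevF4.cartan 3 17 = 1 := by decide
    rw [e0, e3, ph2_eq]
    congr 2
    simp only [zpow_neg, zpow_ofNat, zpow_one, zpow_zero, mul_inv, inv_inv, inv_pow]
    ring

end fam

end Cfsg.Agent.F4Out
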