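import Cfsg.Agent.Lib.Lead.F4Out.F4Shape
import Cfsg.Agent.Lib.Helper8.FA.FieldAutTw
import Cfsg.Agent.Lib.Helper8.FA.OutSplit
import Cfsg.Agent.Lib.Helper8.BT2.Main
import Mathlib

/-!
# The large Ree groups: torus, generation, field automorphisms (lead)

`exists_torus` : the torus realises all pairs of scalars on the families `A` and `B`;
`hom_ext_gens` : the four families generate; `fieldAutF` : the field automorphisms and their action;
`V1G`; the subgroups `SzFam.sub` of the families of Suzuki type; membership of the generators in `U¹`, `B¹`.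
-/

set_option autoImplicit false
set_option maxRecDepth 100000
set_option linter.unusedSectionVars false
set_option linter.unusedSimpArgs false

namespace Cfsg.Agent.F4Out

open Cfsg Cfsg.Lie Cfsg.Agent.Lib.Helper5.Chev Cfsg.Agent.Lib.Helper5.GA Cfsg.Agent.Lib.Helper5.Tw
open Cfsg.Agent.Lib.Helper5.F4W Cfsg.Agent.Lib.Helper8.F4T Cfsg.Agent.Lib.Helper8.FA
open Cfsg.Agent.ChevAut Cfsg.Agent.TwRankOne Cfsg.Agent.TwRankOne.Shape
open Cfsg.Agent.Lib.Helper8.BT2 (U1G)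

variable {K : Type*} [Field K] [Fintype K] [CharP K 2] {m : ℕ}

/-! ### the torus realises all pairs of scalars -/

/-- the two characters as a homomorphism -/
noncomputable def chHom (K : Type*) [Field K] [Fintype K] [CharP K 2] (m : ℕ) : Kˣ × Kˣ →* Kˣ × Kˣ where
  toFun μ := (Units.mk0 (chA μ) (chA_ne μ), Units.mk0 (chB m μ) (chB_ne μ))
  map_one' := by
    apply Prod.ext <;> apply Units.ext <;> simp [chA, chB]
  map_mul' μ ν := by
    apply Prod.ext <;> apply Units.ext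
    · simp only [chA, Prod.fst_mul, Prod.snd_mul, Units.val_mul, Units.val_mk0]
      rw [mul_inv, mul_pow]
      ring
    · simp only [chB, Prod.fst_mul, Prod.snd_mul, Units.val_mul, Units.val_mk0, map_mul]
      rw [mul_inv, mul_pow, mul_pow, mul_inv]
      ring

theorem chHom_injective (hK : Fintype.card K = 2 ^ (2 * m + 1)) :
    Function.Injective (chHom K m) := by
  rw [injective_iff_map_eq_one]
  intro μ hμ
  have hA1 : chA μ = 1 := congrArg (fun p : Kˣ × Kˣ => (p.1 : K)) hμ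
  have hB1 : chB m μ = 1 := congrArg (fun p : Kˣ × Kˣ => (p.2 : K)) hμ
  apply tauT_eq_one_of_comm hK μ
  · have := congrArg Subtype.val (tG_conj_gxA hK μ 1)
    rw [hA1, mul_one] at this
    exact this
  · have := congrArg Subtype.val (tG_conj_gxB hK μ 1 0)
    rw [hB1, mul_one, mul_zero] at this
    exact this

theorem exists_torus (hK : Fintype.card K = 2 ^ (2 * m + 1)) (cA cB : K) (hA : cA ≠ 0)
    (hB : cB ≠ 0) : ∃ μ : Kˣ × Kˣ, chA μ = cA ∧ chB m μ = cB := by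
  have hbij : Function.Bijective (chHom K m) :=
    (Finite.injective_iff_bijective).1 (chHom_injective hK)
  obtain ⟨μ, hμ⟩ := hbij.2 (Units.mk0 cA hA, Units.mk0 cB hB)
  refine ⟨μ, ?_, ?_⟩
  · exact congrArg (fun p : Kˣ × Kˣ => (p.1 : K)) hμ
  · exact congrArg (fun p : Kˣ × Kˣ => (p.2 : K)) hμ

/-! ### generation -/

/-- two homomorphisms which agree on the four families are equal -/
theorem hom_ext_gens {M : Type*} [Monoid M] (f g : GF K m →* M)
    (hxA : ∀ t, f (gxA t) = g (gxA t)) (hyA : ∀ t, f (gyA t) = g (gyA t))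
    (hxB : ∀ t u, f (gxB t u) = g (gxB t u)) (hyB : ∀ t u, f (gyB t u) = g (gyB t u)) : f = g := by
  have htop : Subgroup.closure ((Subtype.val : GF K m → GL chevF4.Idx K) ⁻¹'
      {g | ∃ w ∈ f4Words K (2 ^ m), (g : Matrix chevF4.Idx chevF4.Idx K) = chevF4.wordMat K w})
      = ⊤ := Subgroup.closure_closure_coe_preimage
  apply MonoidHom.eq_of_eqOn_dense htop
  rintro ⟨x, hx⟩ ⟨w, hw, hxw⟩
  have e : x = (hadd4 K).wordU w := by
    apply Units.ext
    rw [hxw, (hadd4 K).wordU_val]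
  rcases hw with ⟨t, rfl | rfl⟩ | ⟨t, u, rfl | rfl⟩
  · have : (⟨x, hx⟩ : GF K m) = gxA t := Subtype.ext (show x = (hadd4 K).wordU ((P1 K).rw m t) by rw [e, P1_rw])
    rw [this]; exact hxA t
  · have : (⟨x, hx⟩ : GF K m) = gyA t := Subtype.ext (show x = (hadd4 K).wordU ((P1n K).rw m t) by rw [e, P1n_rw])
    rw [this]; exact hyA t
  · have : (⟨x, hx⟩ : GF K m) = gxB t u := Subtype.ext (show x = (hadd4 K).wordU ((Q4 K).rw m t u) by rw [e, Q4_rw])
    rw [this]; exact hxB t u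
  · have : (⟨x, hx⟩ : GF K m) = gyB t u := Subtype.ext (show x = (hadd4 K).wordU ((Q4n K).rw m t u) by rw [e, Q4n_rw])
    rw [this]; exact hyB t u

/-! ### the field automorphisms -/

omit [Fintype K] [CharP K 2] in
theorem f4Words_stable (e : ℕ) : WordsStable (f4Words K e) := by
  intro ψ w hw
  rcases hw with ⟨t, rfl | rfl⟩ | ⟨t, u, rfl | rfl⟩
  · left
    refine ⟨ψ t, Or.inl ?_⟩
    simp [mapWord, f4PairWord, map_pow]
  · left
    refine ⟨ψ t, Or.inr ?_⟩
    simp [mapWord, f4PairWord, map_pow]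
  · right
    refine ⟨ψ t, ψ u, Or.inl ?_⟩
    simp [mapWord, b2ClassWord, map_pow]
  · right
    refine ⟨ψ t, ψ u, Or.inr ?_⟩
    simp [mapWord, b2ClassWord, map_pow]

/-- the field automorphisms of the large Ree group -/
noncomputable def fieldAutF (K : Type*) [Field K] (m : ℕ) : (K ≃+* K) →* MulAut (GF K m) :=
  genAutHom (D := chevF4) (f4Words_stable (K := K) (2 ^ m))

omit [Fintype K] [CharP K 2] in
theorem fieldAutF_val (ψ : K ≃+* K) (g : GF K m) :
    ((fieldAutF K m ψ g : GF K m) : GL chevF4.Idx K)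
      = Matrix.GeneralLinearGroup.map (ψ : K →+* K) (g : GL chevF4.Idx K) :=
  genAut_val (D := chevF4) (f4Words_stable (K := K) (2 ^ m)) ψ g

theorem ph1_comm (ψ : K ≃+* K) (t : K) : ψ (ph1 K m t) = ph1 K m (ψ t) := by
  rw [ph1_apply, ph1_apply, map_pow]

theorem ph2_comm (ψ : K ≃+* K) (t : K) : ψ (ph2 K m t) = ph2 K m (ψ t) := by
  rw [ph2_apply, ph2_apply, map_pow]

theorem fieldAutF_gxA (ψ : K ≃+* K) (t : K) : fieldAutF K m ψ (gxA t) = gxA (ψ t) := by
  apply Subtype.ext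
  rw [fieldAutF_val]
  show Matrix.GeneralLinearGroup.map (ψ : K →+* K) ((hadd4 K).wordU ((P1 K).rw m t))
    = (hadd4 K).wordU ((P1 K).rw m (ψ t))
  rw [map_wordU]
  show (hadd4 K).wordU [(33, ψ (ph1 K m t)), (24, ψ t)] = (hadd4 K).wordU [(33, ph1 K m (ψ t)), (24, ψ t)]
  rw [ph1_comm]

theorem fieldAutF_gyA (ψ : K ≃+* K) (t : K) : fieldAutF K m ψ (gyA t) = gyA (ψ t) := by
  apply Subtype.ext
  rw [fieldAutF_val]
  show Matrix.GeneralLinearGroup.map (ψ : K →+* K) ((hadd4 K).wordU ((P1n K).rw m t))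
    = (hadd4 K).wordU ((P1n K).rw m (ψ t))
  rw [map_wordU]
  show (hadd4 K).wordU [(14, ψ (ph1 K m t)), (23, ψ t)] = (hadd4 K).wordU [(14, ph1 K m (ψ t)), (23, ψ t)]
  rw [ph1_comm]

theorem fieldAutF_gxB (ψ : K ≃+* K) (t u : K) :
    fieldAutF K m ψ (gxB t u) = gxB (ψ t) (ψ u) := by
  apply Subtype.ext
  rw [fieldAutF_val]
  show Matrix.GeneralLinearGroup.map (ψ : K →+* K) ((hadd4 K).wordU ((Q4 K).rw m t u))
    = (hadd4 K).wordU ((Q4 K).rw m (ψ t) (ψ u))
  rw [map_wordU]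
  show (hadd4 K).wordU [(27, ψ (ph1 K m t)), (25, ψ t), (28, ψ (ph1 K m t * t + u)),
      (30, ψ (ph2 K m u))]
    = (hadd4 K).wordU [(27, ph1 K m (ψ t)), (25, ψ t), (28, ph1 K m (ψ t) * ψ t + ψ u),
      (30, ph2 K m (ψ u))]
  rw [map_add, map_mul, ph1_comm, ph2_comm]

theorem fieldAutF_gyB (ψ : K ≃+* K) (t u : K) :
    fieldAutF K m ψ (gyB t u) = gyB (ψ t) (ψ u) := by
  apply Subtype.ext
  rw [fieldAutF_val]
  show Matrix.GeneralLinearGroup.map (ψ : K →+* K) ((hadd4 K).wordU ((Q4n K).rw m t u))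
    = (hadd4 K).wordU ((Q4n K).rw m (ψ t) (ψ u))
  rw [map_wordU]
  show (hadd4 K).wordU [(20, ψ (ph1 K m t)), (22, ψ t), (19, ψ (ph1 K m t * t + u)),
      (17, ψ (ph2 K m u))]
    = (hadd4 K).wordU [(20, ph1 K m (ψ t)), (22, ψ t), (19, ph1 K m (ψ t) * ψ t + ψ u),
      (17, ph2 K m (ψ u))]
  rw [map_add, map_mul, ph1_comm, ph2_comm]

/-! ### the unipotent subgroups -/

/-- `V¹`, as a subgroup of the twisted group -/
noncomputable def V1G (K : Type*) [Field K] (m : ℕ) : Subgroup (GF K m) :=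
  (chevF4.negUnipotent K ⊓ twistedF4 K (2 ^ m)).subgroupOf (twistedF4 K (2 ^ m))

omit [Fintype K] [CharP K 2] in
theorem mem_V1G (x : GF K m) :
    x ∈ V1G K m ↔ (x : GL chevF4.Idx K) ∈ chevF4.negUnipotent K := by
  show (x : GL chevF4.Idx K) ∈ chevF4.negUnipotent K ⊓ twistedF4 K (2 ^ m) ↔ _
  exact ⟨fun h => h.1, fun h => ⟨h, x.2⟩⟩

omit [Fintype K] [CharP K 2] in
/-- a subgroup generated by root subgroups is stable under the field automorphisms -/
theorem map_roots_le (ψ : K ≃+* K) (P : ℕ → Prop) {g : GL chevF4.Idx K}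
    (hg : g ∈ Subgroup.closure {x : GL chevF4.Idx K | ∃ (r : ℕ) (t : K), P r ∧
        (x : Matrix chevF4.Idx chevF4.Idx K) = chevF4.x K r t}) :
    Matrix.GeneralLinearGroup.map (ψ : K →+* K) g ∈
      Subgroup.closure {x : GL chevF4.Idx K | ∃ (r : ℕ) (t : K), P r ∧
        (x : Matrix chevF4.Idx chevF4.Idx K) = chevF4.x K r t} := by
  have hle : Subgroup.closure {x : GL chevF4.Idx K | ∃ (r : ℕ) (t : K), P r ∧
        (x : Matrix chevF4.Idx chevF4.Idx K) = chevF4.x K r t} ≤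
      (Subgroup.closure {x : GL chevF4.Idx K | ∃ (r : ℕ) (t : K), P r ∧
        (x : Matrix chevF4.Idx chevF4.Idx K) = chevF4.x K r t}).comap
        (Matrix.GeneralLinearGroup.map (ψ : K →+* K)) := by
    rw [Subgroup.closure_le]
    rintro x ⟨r, t, hr, hx⟩
    have hx' : x = (hadd4 K).xU r t := Units.ext hx
    subst hx'
    rw [SetLike.mem_coe, Subgroup.mem_comap, map_xU]
    exact Subgroup.subset_closure ⟨r, ψ t, hr, rfl⟩
  exact hle hg

omit [Fintype K] [CharP K 2] in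
theorem fieldAutF_mem_U1G (ψ : K ≃+* K) {g : GF K m} (hg : g ∈ U1G K m) :
    fieldAutF K m ψ g ∈ U1G K m := by
  rw [Cfsg.Agent.Lib.Helper8.BT2.mem_U1G] at hg ⊢
  rw [fieldAutF_val]
  exact map_roots_le ψ _ hg

omit [Fintype K] [CharP K 2] in
theorem fieldAutF_mem_V1G (ψ : K ≃+* K) {g : GF K m} (hg : g ∈ V1G K m) :
    fieldAutF K m ψ g ∈ V1G K m := by
  rw [mem_V1G] at hg ⊢
  rw [fieldAutF_val]
  exact map_roots_le ψ _ hg

/-! ### the root subgroups of Suzuki type -/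

/-- the subgroup of a family of Suzuki type -/
def SzFam.sub {e : ℕ} {G : Type*} [Group G] (S : SzFam K e G) (Q : FieldOK K e) : Subgroup G where
  carrier := {g | ∃ t u, g = S.X t u}
  mul_mem' := by
    rintro _ _ ⟨t, u, rfl⟩ ⟨t', u', rfl⟩
    exact ⟨_, _, S.X_mul t u t' u'⟩
  one_mem' := ⟨0, 0, S.X_zero.symm⟩
  inv_mem' := by
    rintro _ ⟨t, u, rfl⟩
    refine ⟨t, u + t ^ e * t, ?_⟩
    apply inv_eq_of_mul_eq_one_right
    rw [S.X_mul, Q.add_self]
    have : u + (u + t ^ e * t) + t ^ e * t = (u + u) + (t ^ e * t + t ^ e * t) := by ring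
    rw [this, Q.add_self, Q.add_self, add_zero, S.X_zero]

theorem SzFam.mem_sub {e : ℕ} {G : Type*} [Group G] (S : SzFam K e G) (Q : FieldOK K e) (g : G) :
    g ∈ S.sub Q ↔ ∃ t u, g = S.X t u := Iff.rfl

theorem SzFam.card_sub {e : ℕ} {G : Type*} [Group G] (S : SzFam K e G) (Q : FieldOK K e) :
    Nat.card (S.sub Q) = Nat.card (K × K) := by
  symm
  apply Nat.card_congr
  refine Equiv.ofBijective (fun p => ⟨S.X p.1 p.2, p.1, p.2, rfl⟩) ⟨?_, ?_⟩
  · intro p p' h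
    have := S.X_inj _ _ _ _ (congrArg Subtype.val h)
    exact Prod.ext this.1 this.2
  · rintro ⟨g, t, u, rfl⟩
    exact ⟨(t, u), rfl⟩

/-! ### membership of the generators -/

theorem gxB_mem_U1G (t u : K) : (gxB t u : GF K m) ∈ U1G K m := by
  rw [Cfsg.Agent.Lib.Helper8.BT2.mem_U1G]
  exact wordU_mem_pos _ (Q4_bd t u)

theorem gxB_mem_B1 (t u : K) : (gxB t u : GF K m) ∈ B1 K m := by
  rw [mem_B1]
  exact Cfsg.Agent.Lib.Helper8.BT2.pos_le_borel' ((Cfsg.Agent.Lib.Helper8.BT2.mem_U1G _).1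
    (gxB_mem_U1G t u))

theorem gyB_mem_neg (t u : K) :
    ((gyB t u : GF K m) : GL chevF4.Idx K) ∈ chevF4.negUnipotent K := by
  apply wordU_mem_neg
  intro p hp
  have : p = (20, ph1 K m t) ∨ p = (22, t) ∨ p = (19, ph1 K m t * t + u) ∨ p = (17, ph2 K m u) := by
    simpa [B2Side.rw, B2Side.w4, Q4n, mkB2] using hp
  rcases this with rfl | rfl | rfl | rfl <;> norm_num

theorem gyB_eq_one_of_mem_B1 (t u : K) (h : (gyB t u : GF K m) ∈ B1 K m) :
    (gyB t u : GF K m) = 1 := by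
  rw [mem_B1] at h
  have : ((gyB t u : GF K m) : GL chevF4.Idx K) ∈ chevF4.borelSubgroup K ⊓ chevF4.negUnipotent K :=
    ⟨h, gyB_mem_neg t u⟩
  rw [(borel_inf_neg_all chevF4 hF4').1, Subgroup.mem_bot] at this
  exact Subtype.ext this

theorem tG_mem_B1 (hK : Fintype.card K = 2 ^ (2 * m + 1)) (μ : Kˣ × Kˣ) : tG hK μ ∈ B1 K m := by
  rw [mem_B1]
  exact Cfsg.Agent.Lib.Helper8.BT2.diag_le_borel (tauT_mem_diag hK μ)

theorem B1_conj_U1G {b g : GF K m} (hb : b ∈ B1 K m) (hg : g ∈ U1G K m) :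
    b * g * b⁻¹ ∈ U1G K m := by
  rw [Cfsg.Agent.Lib.Helper8.BT2.mem_U1G] at hg ⊢
  rw [mem_B1] at hb
  exact Cfsg.Agent.Lib.Helper8.BT2.borel_conj_pos _ _ hb hg

end Cfsg.Agent.F4Out
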