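import Cfsg.Agent.Lib.Lead.F4Out.F4Cells
import Mathlib

/-!
# The outer automorphism group of the large Ree groups, from the (B,N)-pair (lead)

`F4BN` : the facts on the (B,N)-pair which are used (normal form of an automorphism, the normaliser of
`U¹`, the stabiliser of `U¹` and `V¹`);
`card_out_of_bn` : `|Out(²F₄(q))| = 2m + 1` from `F4BN`.
-/

set_option autoImplicit false
set_option maxRecDepth 100000
set_option linter.unusedSectionVars false
set_option linter.unusedSimpArgs false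

namespace Cfsg.Agent.F4Out

open Cfsg Cfsg.Lie Cfsg.Agent.Lib.Helper5.Chev Cfsg.Agent.Lib.Helper5.GA Cfsg.Agent.Lib.Helper5.Tw
open Cfsg.Agent.Lib.Helper5.F4W Cfsg.Agent.Lib.Helper8.F4T Cfsg.Agent.Lib.Helper8.FA
open Cfsg.Agent.ChevAut Cfsg.Agent.TwRankOne Cfsg.Agent.TwRankOne.Shape
open Cfsg.Agent.Lib.Helper8.BT2 (U1G)

variable {K : Type*} [Field K] [Fintype K] [CharP K 2] {m : ℕ}

/-! ### the facts on the (B,N)-pair used below -/

/-- the facts on the (B,N)-pair used for the outer automorphism group -/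
structure F4BN (hK : Fintype.card K = 2 ^ (2 * m + 1)) : Prop where
  nf : ∀ θ : GF K m ≃* GF K m, ∃ x : GF K m,
      (∀ g ∈ U1G K m, x⁻¹ * θ g * x ∈ U1G K m) ∧
      (∀ t, ∃ t', x⁻¹ * θ (gxA t) * x = gxA t') ∧ (∀ t, ∃ t', x⁻¹ * θ (gyA t) * x = gyA t') ∧
      (∀ t u, ∃ t' u', x⁻¹ * θ (gxB t u) * x = gxB t' u') ∧
      (∀ t u, ∃ t' u', x⁻¹ * θ (gyB t u) * x = gyB t' u')
  norm : ∀ g : GF K m, (∀ u ∈ U1G K m, g * u * g⁻¹ ∈ U1G K m) → g ∈ B1 K m
  torus : ∀ g : GF K m, (∀ u ∈ U1G K m, g * u * g⁻¹ ∈ U1G K m) →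
      (∀ v ∈ V1G K m, g * v * g⁻¹ ∈ V1G K m) →
      (g : GL chevF4.Idx K) ∈ chevF4.diagonalSubgroup K

/-! ### every automorphism is inner times field -/

theorem surj_of_bn (hK : Fintype.card K = 2 ^ (2 * m + 1)) (hm : 1 ≤ m) (H : F4BN (m := m) hK)
    (θ : MulAut (GF K m)) : ∃ (x : GF K m) (ψ : K ≃+* K), θ = MulAut.conj x * fieldAutF K m ψ := by
  classical
  have : Finite (GF K m) := inferInstance
  obtain ⟨x, hU, hxA, hyA, hxB, hyB⟩ := H.nf θ
  set θ' : MulAut (GF K m) := MulAut.conj x⁻¹ * θ with hθ'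
  have hθ'a : ∀ g, θ' g = x⁻¹ * θ g * x := fun g => by
    rw [hθ', MulAut.mul_apply, MulAut.conj_apply, inv_inv]
  have Q := fieldOK hK hm
  obtain ⟨cA, cB, cB', ψ, hcA, hcB, hcB', sxA, syA, sxB, syB⟩ := f4_shape hK hm θ'
    (fun t => by simpa only [hθ'a] using hxA t) (fun t => by simpa only [hθ'a] using hyA t)
    (fun t u => by simpa only [hθ'a] using hxB t u) (fun t u => by simpa only [hθ'a] using hyB t u)
  obtain ⟨ν, hνA, hνB⟩ := exists_torus hK cA⁻¹ cB⁻¹ (inv_ne_zero hcA) (inv_ne_zero hcB)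
  set θ₂ : MulAut (GF K m) := fieldAutF K m ψ⁻¹ * (MulAut.conj (tG hK ν) * θ') with hθ₂
  have hθ₂a : ∀ g, θ₂ g = fieldAutF K m ψ⁻¹ (tG hK ν * θ' g * (tG hK ν)⁻¹) := fun g => by
    rw [hθ₂, MulAut.mul_apply, MulAut.mul_apply, MulAut.conj_apply]
  have hψi : ∀ t, (ψ⁻¹ : K ≃+* K) (ψ t) = t := fun t => ψ.symm_apply_apply t
  -- the action of `θ₂` on the generators
  have fxA : ∀ t, θ₂ (gxA t) = gxA t := by
    intro t
    rw [hθ₂a, sxA, tG_conj_gxA, fieldAutF_gxA, hνA, inv_mul_cancel_left₀ hcA, hψi]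
  have fyA : ∀ t, θ₂ (gyA t) = gyA t := by
    intro t
    rw [hθ₂a, syA, tG_conj_gyA, fieldAutF_gyA, hνA, inv_inv, mul_inv_cancel_left₀ hcA, hψi]
  have fxB : ∀ t u, θ₂ (gxB t u) = gxB t u := by
    intro t u
    rw [hθ₂a, sxB, tG_conj_gxB, fieldAutF_gxB, hνB, inv_mul_cancel_left₀ hcB, inv_pow,
      inv_mul_cancel_left₀ (pow_ne_zero _ hcB), hψi, hψi]
  have fyB : ∀ t u, ∃ t' u', θ₂ (gyB t u) = gyB t' u' := by
    intro t u
    rw [hθ₂a, syB, tG_conj_gyB, fieldAutF_gyB]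
    exact ⟨_, _, rfl⟩
  -- `θ₂` stabilises `U¹` and `B¹`
  have mapsU : ∀ g ∈ U1G K m, θ₂ g ∈ U1G K m := by
    intro g hg
    rw [hθ₂a]
    apply fieldAutF_mem_U1G
    apply B1_conj_U1G (tG_mem_B1 hK ν)
    rw [hθ'a]
    exact hU g hg
  have surjU : ∀ u ∈ U1G K m, ∃ u' ∈ U1G K m, θ₂ u' = u := by
    have hinj : Function.Injective (fun g : U1G K m => (⟨θ₂ g, mapsU g g.2⟩ : U1G K m)) := by
      intro g g' h
      exact Subtype.ext (θ₂.injective (congrArg Subtype.val h))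
    have hsur := Finite.surjective_of_injective hinj
    intro u hu
    obtain ⟨u', hu'⟩ := hsur ⟨u, hu⟩
    exact ⟨u', u'.2, congrArg Subtype.val hu'⟩
  have mapsB : ∀ b ∈ B1 K m, θ₂ b ∈ B1 K m := by
    intro b hb
    apply H.norm
    intro u hu
    obtain ⟨u', hu', rfl⟩ := surjU u hu
    rw [← map_inv, ← map_mul, ← map_mul]
    exact mapsU _ (B1_conj_U1G hb hu')
  -- rigidity
  have rig : ∀ y ∈ (SY hK).sub Q, θ₂ y = y := by
    apply coset_rigidity (B1 K m) ((SX hK).sub Q) ((SY hK).sub Q)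
      (by rw [SzFam.card_sub, SzFam.card_sub]) (sB K m)⁻¹
    · rintro y ⟨t, u, rfl⟩ hy1
      obtain ⟨t', u', b, hb, e⟩ := cov' hK hm t u hy1
      exact ⟨gxB t' u', ⟨t', u', rfl⟩, b, hb, e⟩
    · rintro _ ⟨t, u, rfl⟩ _ ⟨t', u', rfl⟩ b hb e
      obtain ⟨h1, h2⟩ := uniq' hK hm t u t' u' b hb e
      show (gxB t u : GF K m) = gxB t' u'
      rw [h1, h2]
    · rintro _ ⟨t, u, rfl⟩
      show ((sB K m)⁻¹)⁻¹ * gyB t u * (sB K m)⁻¹ ∈ B1 K m
      rw [← sB_conj_gxB]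
      have : ((sB K m)⁻¹)⁻¹ * (sB K m * gxB t u * (sB K m)⁻¹) * (sB K m)⁻¹
          = (sB K m * sB K m) * gxB t u * (sB K m * sB K m)⁻¹ := by group
      rw [this]
      exact Subgroup.mul_mem _ (Subgroup.mul_mem _ sB_sq_mem (gxB_mem_B1 t u))
        (Subgroup.inv_mem _ sB_sq_mem)
    · exact sB_inv_not_mem
    · rintro _ ⟨t, u, rfl⟩ hy
      exact gyB_eq_one_of_mem_B1 t u hy
    · exact mapsB
    · rintro _ ⟨t, u, rfl⟩
      exact fxB t u
    · rintro _ ⟨t, u, rfl⟩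
      obtain ⟨t', u', e⟩ := fyB t u
      exact ⟨t', u', e⟩
  -- `θ₂ = 1`
  have h1 : θ₂ = 1 := by
    have := hom_ext_gens (θ₂ : GF K m ≃* GF K m).toMonoidHom (MonoidHom.id _) fxA fyA fxB
      (fun t u => rig _ ⟨t, u, rfl⟩)
    apply MulEquiv.ext
    intro g
    exact DFunLike.congr_fun this g
  -- conclusion
  refine ⟨x * (tG hK ν)⁻¹, ψ, ?_⟩
  have e1 : MulAut.conj (tG hK ν) * θ' = fieldAutF K m ψ := by
    have : fieldAutF K m ψ⁻¹ * (MulAut.conj (tG hK ν) * θ') = 1 := h1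
    rw [map_inv] at this
    exact inv_mul_eq_one.1 this |>.symm
  have e2 : θ' = (MulAut.conj (tG hK ν))⁻¹ * fieldAutF K m ψ := by
    rw [← e1, inv_mul_cancel_left]
  have e3 : θ = MulAut.conj x * θ' := by
    rw [hθ', ← mul_assoc, ← map_mul, mul_inv_cancel, map_one, one_mul]
  rw [e3, e2, map_mul, map_inv, mul_assoc]

/-! ### an inner field automorphism is trivial -/

theorem inj_of_bn (hK : Fintype.card K = 2 ^ (2 * m + 1)) (H : F4BN (m := m) hK)
    (ψ : K ≃+* K) (h : fieldAutF K m ψ ∈ Cfsg.Inn (GF K m)) : ψ = 1 := by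
  obtain ⟨g, hg⟩ := h
  have key : ∀ y : GF K m, g * y * g⁻¹ = fieldAutF K m ψ y := fun y => by
    rw [← hg, MulAut.conj_apply]
  have hd := H.torus g (fun u hu => by rw [key]; exact fieldAutF_mem_U1G ψ hu)
    (fun v hv => by rw [key]; exact fieldAutF_mem_V1G ψ hv)
  obtain ⟨μ, hμ⟩ := (diag_twisted_iff hK (g : GL chevF4.Idx K)).1 ⟨hd, g.2⟩
  have hgμ : g = tG hK μ := Subtype.ext hμ.symm
  have e : ∀ t : K, ψ t = chA μ * t := by
    intro t
    have h1 := key (gxA t)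
    rw [hgμ, tG_conj_gxA, fieldAutF_gxA] at h1
    exact (gxA_inj _ _ h1).symm
  have e1 : chA μ = 1 := by
    have := e 1
    rw [map_one, mul_one] at this
    exact this.symm
  apply RingEquiv.ext
  intro t
  rw [e t, e1, one_mul]
  rfl

/-- the number of field automorphisms -/
theorem card_ringAut2 (hK : Fintype.card K = 2 ^ (2 * m + 1)) : Nat.card (K ≃+* K) = 2 * m + 1 := by
  let _ : Algebra (ZMod 2) K := ZMod.algebra K 2
  have h1 : Module.finrank (ZMod 2) K = 2 * m + 1 := by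
    have := Module.card_eq_pow_finrank (K := ZMod 2) (V := K)
    rw [hK, ZMod.card] at this
    exact (Nat.pow_right_injective (le_refl 2) this).symm
  have h2 := IsGalois.card_aut_eq_finrank (ZMod 2) K
  rw [h1] at h2
  rw [← h2]
  apply Nat.card_congr
  refine ⟨fun ψ => AlgEquiv.ofRingEquiv (f := ψ) (fun r => ?_), fun e => e.toRingEquiv, ?_, ?_⟩
  · have : (ψ : K →+* K).comp (algebraMap (ZMod 2) K) = algebraMap (ZMod 2) K :=
      Subsingleton.elim _ _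
    exact DFunLike.congr_fun this r
  · intro ψ; rfl
  · intro e; rfl

/-- **the outer automorphism group of the large Ree groups**, from the facts on the (B,N)-pair -/
theorem card_out_of_bn (hK : Fintype.card K = 2 ^ (2 * m + 1)) (hm : 1 ≤ m)
    (H : F4BN (m := m) hK) : Nat.card (Cfsg.Out (GF K m)) = 2 * m + 1 := by
  rw [card_out_of_split (fieldAutF K m) (fun θ => surj_of_bn hK hm H θ)
    (fun ψ h => inj_of_bn hK H ψ h), card_ringAut2 hK]

end Cfsg.Agent.F4Out
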