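import Cfsg.Agent.Lib.Lead.F4Out.F4Fam
import Mathlib

/-!
# The shape of an automorphism of a large Ree group on the four families of generators (lead)

`f4_shape` : an automorphism stabilising the families `gxA`, `gyA`, `gxB`, `gyB` acts on them through one
field automorphism `ψ` and scalars `cA`, `cB`, `cB'`.
-/

set_option autoImplicit false
set_option maxRecDepth 100000
set_option linter.unusedSectionVars false
set_option linter.unusedSimpArgs false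

namespace Cfsg.Agent.F4Out

open Cfsg Cfsg.Lie Cfsg.Agent.Lib.Helper5.Chev Cfsg.Agent.Lib.Helper5.GA Cfsg.Agent.Lib.Helper5.Tw
open Cfsg.Agent.Lib.Helper5.F4W Cfsg.Agent.Lib.Helper8.F4T
open Cfsg.Agent.ChevAut Cfsg.Agent.TwRankOne Cfsg.Agent.TwRankOne.Shape

variable {K : Type*} [Field K] [Fintype K] [CharP K 2] {m : ℕ}

/-- the field facts -/
theorem fieldOK (hK : Fintype.card K = 2 ^ (2 * m + 1)) (hm : 1 ≤ m) : FieldOK K (2 ^ m) where
  two := CharTwo.two_eq_zero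
  add_pow a b := by rw [← ph1_apply, ← ph1_apply, ← ph1_apply, map_add]
  tits t := by rw [← ph1_apply, ← ph1_apply, ph1_ph1_sq hK]
  big := by
    classical
    by_contra h
    push Not at h
    have hsub : (Finset.univ : Finset K) ⊆ {0, 1} := by
      intro l _
      by_cases hl : l = 0
      · simp [hl]
      · simp [h l hl]
    have h1 := Finset.card_le_card hsub
    rw [Finset.card_univ, hK] at h1
    have h2 : ({0, 1} : Finset K).card ≤ 2 := Finset.card_le_two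
    have h3 : 2 ^ 3 ≤ 2 ^ (2 * m + 1) := Nat.pow_le_pow_right (by norm_num) (by omega)
    omega
  epos := Nat.one_le_two_pow

/-- the two Suzuki families -/
noncomputable def SX (hK : Fintype.card K = 2 ^ (2 * m + 1)) : SzFam K (2 ^ m) (GF K m) where
  X := gxB
  X_mul := gxB_mul hK
  X_inj := gxB_inj

noncomputable def SY (hK : Fintype.card K = 2 ^ (2 * m + 1)) : SzFam K (2 ^ m) (GF K m) where
  X := gyB
  X_mul := gyB_mul hK
  X_inj := gyB_inj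

theorem hA_inv_conj_gxB (hK : Fintype.card K = 2 ^ (2 * m + 1)) (a : K) (ha : a ≠ 0) (t u : K) :
    (hA a : GF K m)⁻¹ * gxB t u * hA a = gxB (a * t) (a ^ (2 ^ m + 1) * u) := by
  have := hA_conj_gxB hK a ha (a * t) (a ^ (2 ^ m + 1) * u)
  rw [inv_mul_cancel_left₀ ha, inv_pow, inv_mul_cancel_left₀ (pow_ne_zero _ ha)] at this
  rw [← this]
  group

theorem hA_inv_conj_gyB (hK : Fintype.card K = 2 ^ (2 * m + 1)) (a : K) (ha : a ≠ 0) (t u : K) :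
    (hA a : GF K m)⁻¹ * gyB t u * hA a = gyB (a⁻¹ * t) ((a⁻¹) ^ (2 ^ m + 1) * u) := by
  have := hA_conj_gyB hK a ha (a⁻¹ * t) ((a⁻¹) ^ (2 ^ m + 1) * u)
  rw [mul_inv_cancel_left₀ ha, inv_pow, mul_inv_cancel_left₀ (pow_ne_zero _ ha)] at this
  rw [inv_pow, ← this]
  group

theorem conj_prod_gxB (hK : Fintype.card K = 2 ^ (2 * m + 1)) (b c : K) (hb : b ≠ 0) (hc : c ≠ 0)
    (t u : K) :
    ((hA b : GF K m) * (hA c)⁻¹) * gxB t u * ((hA b : GF K m) * (hA c)⁻¹)⁻¹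
      = gxB (b⁻¹ * c * t) ((b⁻¹ * c) ^ (2 ^ m + 1) * u) := by
  have e : ((hA b : GF K m) * (hA c)⁻¹) * gxB t u * ((hA b : GF K m) * (hA c)⁻¹)⁻¹
      = hA b * ((hA c)⁻¹ * gxB t u * hA c) * (hA b)⁻¹ := by group
  rw [e, hA_inv_conj_gxB hK _ hc, hA_conj_gxB hK _ hb, mul_pow]
  congr 1 <;> ring

theorem conj_prod_gyB (hK : Fintype.card K = 2 ^ (2 * m + 1)) (b c : K) (hb : b ≠ 0) (hc : c ≠ 0)
    (t u : K) :
    ((hA b : GF K m) * (hA c)⁻¹) * gyB t u * ((hA b : GF K m) * (hA c)⁻¹)⁻¹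
      = gyB (b * c⁻¹ * t) ((b * c⁻¹) ^ (2 ^ m + 1) * u) := by
  have e : ((hA b : GF K m) * (hA c)⁻¹) * gyB t u * ((hA b : GF K m) * (hA c)⁻¹)⁻¹
      = hA b * ((hA c)⁻¹ * gyB t u * hA c) * (hA b)⁻¹ := by group
  rw [e, hA_inv_conj_gyB hK _ hc, hA_conj_gyB hK _ hb, mul_pow]
  congr 1 <;> ring

/-- **the shape of an automorphism stabilising the four families** -/
theorem f4_shape (hK : Fintype.card K = 2 ^ (2 * m + 1)) (hm : 1 ≤ m) (th : GF K m ≃* GF K m)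
    (hxA : ∀ t, ∃ t', th (gxA t) = gxA t') (hyA : ∀ t, ∃ t', th (gyA t) = gyA t')
    (hxB : ∀ t u, ∃ t' u', th (gxB t u) = gxB t' u')
    (hyB : ∀ t u, ∃ t' u', th (gyB t u) = gyB t' u') :
    ∃ (cA cB cB' : K) (ψ : K ≃+* K), cA ≠ 0 ∧ cB ≠ 0 ∧ cB' ≠ 0 ∧
      (∀ t, th (gxA t) = gxA (cA * ψ t)) ∧ (∀ t, th (gyA t) = gyA (cA⁻¹ * ψ t)) ∧
      (∀ t u, th (gxB t u) = gxB (cB * ψ t) (cB ^ (2 ^ m + 1) * ψ u)) ∧
      (∀ t u, th (gyB t u) = gyB (cB' * ψ t) (cB' ^ (2 ^ m + 1) * ψ u)) := by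
  choose φ hφ using hxA
  choose γ hγ using hyA
  obtain ⟨ψ, h1, hφ', hγ', tor⟩ := (RA K m).shape th hφ hγ
  have Q := fieldOK hK hm
  have hφne : ∀ a, a ≠ 0 → φ a ≠ 0 := fun a ha => by
    rw [hφ']
    exact mul_ne_zero h1 ((map_ne_zero ψ).2 ha)
  have tor' : ∀ a, a ≠ 0 → th (hA a) = hA (φ a) * (hA (φ 1))⁻¹ := tor
  -- the family `X_B`
  obtain ⟨cB, hcB, hB⟩ := (SX hK).shape Q hA th hxB ψ
    (fun a ha t u => hA_conj_gxB hK a ha t u)
    (fun a ha t u => by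
      rw [tor' a ha]
      show hA (φ a) * (hA (φ 1))⁻¹ * gxB t u * (hA (φ a) * (hA (φ 1))⁻¹)⁻¹ = gxB _ _
      rw [conj_prod_gxB hK _ _ (hφne a ha) h1]
      have e1 : (φ a)⁻¹ * φ 1 = (ψ a)⁻¹ := by
        rw [hφ' a]
        have : ψ a ≠ 0 := (map_ne_zero ψ).2 ha
        field_simp
      rw [e1])
  -- the family `Y_B`
  obtain ⟨cB', hcB', hB'⟩ := (SY hK).shape Q (fun a => hA a⁻¹) th hyB ψ
    (fun a ha t u => by
      show hA a⁻¹ * gyB t u * (hA a⁻¹)⁻¹ = gyB _ _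
      rw [hA_conj_gyB hK _ (inv_ne_zero ha)])
    (fun a ha t u => by
      show th (hA a⁻¹) * gyB t u * (th (hA a⁻¹))⁻¹ = gyB _ _
      rw [tor' _ (inv_ne_zero ha), conj_prod_gyB hK _ _ (hφne _ (inv_ne_zero ha)) h1]
      have e1 : φ a⁻¹ * (φ 1)⁻¹ = (ψ a)⁻¹ := by
        rw [hφ' a⁻¹, map_inv₀]
        field_simp
      rw [e1])
  refine ⟨φ 1, cB, cB', ψ, h1, hcB, hcB', ?_, ?_, hB, hB'⟩
  · intro t
    rw [hφ, hφ']
  · intro t
    rw [hγ, hγ']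

end Cfsg.Agent.F4Out
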